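import Cfsg.Agent.H979.CovLift

/-!
# Centralizers in `C(t)/Z` (helper180)

`M` a finite group, `t` in `M` with `Z(C(t))` of order 2, `e : C(t)/Z ≃* X`.

* `card_quot` : `|C_M(x) ∩ C_M(t)| = 2 |C_X(e x)|` for `x` in `C(t)` of odd order.
-/

set_option autoImplicit false
open Subgroup

namespace Cfsg.Agent.H180.TH.Baby

open Cfsg.Agent.H979.CovLift

universe u v

section

variable {M : Type u} [Group M] [Finite M] {t : M} {X : Type v} [Group X]
  (h2 : Nat.card ↥(center ↥(centralizer ({t} : Set M))) = 2)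
  (e : ↥(centralizer ({t} : Set M)) ⧸ center ↥(centralizer ({t} : Set M)) ≃* X)

include h2

/-- `|C_M(x) ∩ C_M(t)| = 2 |C_X(e x)|` -/
theorem card_quot {x : ↥(centralizer ({t} : Set M))} {n : ℕ} (hn : Odd n) (hx : x ^ n = 1) :
    Nat.card ↥(centralizer ({(x : M)} : Set M) ⊓ centralizer ({t} : Set M)) =
      Nat.card ↥(centralizer ({e (QuotientGroup.mk x)} : Set X)) * 2 := by
  have hXf : Finite X := Finite.of_equiv _ e.toEquiv
  let E : Subgroup M := centralizer ({t} : Set M)
  let Z : Subgroup ↥(centralizer ({t} : Set M)) := center ↥(centralizer ({t} : Set M))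
  let y : X := e (QuotientGroup.mk x)
  let CE : Subgroup ↥E := centralizer ({x} : Set ↥E)
  have hmem : ∀ c : CE, e (QuotientGroup.mk (c : ↥E)) ∈ centralizer ({y} : Set X) := by
    intro c
    rw [mem_centralizer_singleton_iff]
    show e _ * e _ = e _ * e _
    rw [← map_mul, ← map_mul]
    congr 1
    exact congrArg (QuotientGroup.mk (s := Z)) (mem_centralizer_singleton_iff.1 c.2)
  let g : CE →* ↥(centralizer ({y} : Set X)) :=
    ((e.toMonoidHom.comp (QuotientGroup.mk' Z)).comp CE.subtype).codRestrict _ hmem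
  have hg : Function.Surjective g := by
    rintro ⟨w, hw⟩
    obtain ⟨c, hc⟩ := QuotientGroup.mk_surjective (e.symm w)
    have h3 : x * c = c * x := by
      refine lift_comm le_rfl h2 hn hx ?_
      rw [hc]
      apply e.injective
      rw [map_mul, map_mul, e.apply_symm_apply]
      exact (mem_centralizer_singleton_iff.1 hw).symm
    refine ⟨⟨c, mem_centralizer_singleton_iff.2 h3.symm⟩, Subtype.ext ?_⟩
    show e (QuotientGroup.mk c) = w
    rw [hc, e.apply_symm_apply]
  have hgk : Nat.card g.ker = 2 := by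
    rw [← h2]
    refine Nat.card_congr
      { toFun := fun k => ⟨((k : CE) : ↥E), ?_⟩
        invFun := fun k => ⟨⟨k, mem_centralizer_singleton_iff.2 (mem_center_iff.1 k.2 x).symm⟩, ?_⟩
        left_inv := fun k => rfl
        right_inv := fun k => rfl }
    · have h3 : e (QuotientGroup.mk ((k : CE) : ↥E)) = 1 := congrArg Subtype.val (MonoidHom.mem_ker.1 k.2)
      rw [map_eq_one_iff e e.injective] at h3
      exact (QuotientGroup.eq_one_iff _).1 h3
    · rw [MonoidHom.mem_ker]
      apply Subtype.ext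
      show e (QuotientGroup.mk (k : ↥E)) = 1
      rw [(QuotientGroup.eq_one_iff _).2 k.2, map_one]
  have h7 : Nat.card CE = Nat.card ↥(centralizer ({y} : Set X)) * 2 := by
    rw [Subgroup.card_eq_card_quotient_mul_card_subgroup g.ker, hgk,
      Nat.card_congr (QuotientGroup.quotientKerEquivOfSurjective g hg).toEquiv]
  show _ = Nat.card ↥(centralizer ({y} : Set X)) * 2
  rw [← h7]
  refine Nat.card_congr
    { toFun := fun k => ⟨⟨(k : M), (mem_inf.1 k.2).2⟩, ?_⟩
      invFun := fun k => ⟨((k : ↥E) : M), mem_inf.2 ⟨?_, (k : ↥E).2⟩⟩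
      left_inv := fun k => rfl
      right_inv := fun k => rfl }
  · rw [mem_centralizer_singleton_iff]
    exact Subtype.ext (mem_centralizer_singleton_iff.1 (mem_inf.1 k.2).1)
  · rw [mem_centralizer_singleton_iff]
    exact congrArg Subtype.val (mem_centralizer_singleton_iff.1 k.2)

theorem card_dvd {x : ↥(centralizer ({t} : Set M))} {n : ℕ} (hn : Odd n) (hx : x ^ n = 1) :
    Nat.card ↥(centralizer ({e (QuotientGroup.mk x)} : Set X)) ∣
      Nat.card ↥(centralizer ({(x : M)} : Set M) ⊓ centralizer ({t} : Set M)) := by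
  rw [card_quot h2 e hn hx]
  exact dvd_mul_right _ _

end

end Cfsg.Agent.H180.TH.Baby
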