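import Cfsg.Agent.H180.TriH.Baby

/-!
# Transitivity row (S4335): the Baby Monster (helper180)
-/

set_option autoImplicit false
set_option maxRecDepth 100000

namespace Cfsg.Agent.H180.TH.Baby

open Cfsg Cfsg.Agent.H630.NH Cfsg.Agent.H241.NH Cfsg.Agent.H393.Iso
open Cfsg.Agent.H979.CovLift
open Cfsg.Agent.MonsterX Cfsg.Agent.MonsterX.InstData Cfsg.Agent.MonsterX.MainPack Cfsg.Agent.MonsterU
open Cfsg.Agent.MonsterP Cfsg.Agent.MonsterN Cfsg.Agent.LThree Cfsg.Agent.LThreeMB
open Cfsg.Agent.MonsterX.MainBasic Cfsg.Agent.MonsterX.MainSimple Cfsg.Agent.MonsterX.Model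
open Subgroup (centralizer mem_centralizer_singleton_iff center card_dvd_of_le)

universe u

/-- **An element of order 5 of `B` with centralizer in `5 × HN`.** -/
theorem exists_five {L : Type u} [Group L] [Finite L] (h : Spor.IsoB L) : ∃ y : L, orderOf y = 5 ∧
    Nat.card ↥(centralizer ({y} : Set L)) ∣ 273030912000000 * 5 ∧ ∀ z : L, orderOf z = 19 → y * z ≠ z * y := by
  have hfin : Finite ↥InstData.M.G := MThirteen.Row.finite
  obtain ⟨f⟩ := h
  obtain ⟨x, s, hs, hx, hHN, hxt⟩ := H573.Spor.Monster.exists_pair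
  obtain ⟨⟨h2, -, ⟨e⟩⟩, -⟩ := ModelB.fieldsKS LitFin.all KDone.lnk KDone.lft (NodesGrp.prel LitFin.H)
    (NodesNe.ne LitFin.H) LitFin.conj_ten Cfsg.Agent.S1704.result hs
  have ht : orderOf (KDone.K.ι s) = 2 := by
    refine orderOf_eq_prime ?_ ?_
    · rw [← map_pow, pow_two, KDone.lft.sh_sq s hs, map_one]
    · intro h1
      have h3 : s = 1 := InvTwo.ι_inj KDone.lft (h1.trans (map_one _).symm)
      have h4 := (TwoCls.mem_Sh_iff KDone.lft s).1 hs
      rw [h3, TwoCls.clP_one] at h4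
      exact CloseLat.ne_zero_of_two h4 rfl
  generalize KDone.K.ι s = t at *
  obtain ⟨x', rfl⟩ : ∃ x' : ↥(centralizer ({t} : Set ↥InstData.M.G)), (x' : ↥InstData.M.G) = x :=
    ⟨⟨x, mem_centralizer_singleton_iff.2 hxt⟩, rfl⟩
  have hx0 := hx
  rw [Subgroup.orderOf_coe] at hx
  have hcop : (Nat.card ↥(center ↥(centralizer ({t} : Set ↥InstData.M.G)))).Coprime 5 := by rw [h2]; norm_num
  have hx5 : x' ^ 5 = 1 := by rw [← hx, pow_orderOf_eq_one]
  let e' := e.trans f.symm
  refine ⟨e' (QuotientGroup.mk x'), ?_, ?_, ?_⟩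
  · rw [MulEquiv.orderOf_eq]
    exact Red.orderOf_mk Nat.prime_five _ hcop hx
  · have h1 := card_dvd h2 e' (x := x') (n := 5) (by decide) hx5
    refine (h1.trans (card_dvd_of_le inf_le_left)).trans ?_
    rw [H573.Spor.card_XX, NotCT.Orders.hn hHN, hx0]
  · intro z hz hc
    obtain ⟨b, hb, hb'⟩ := exists_lift h2 (by norm_num : Nat.Prime 19) (by norm_num) (x := e'.symm z)
      (by rw [MulEquiv.orderOf_eq, hz])
    have hxb : x' * b = b * x' := lift_comm le_rfl h2 (by decide : Odd 5) hx5 (by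
      rw [hb']
      apply e'.injective
      rw [map_mul, map_mul, e'.apply_symm_apply]
      exact hc)
    have hxb' : (x' : ↥InstData.M.G) * b = b * x' := congrArg Subtype.val hxb
    have htb : t * (b : ↥InstData.M.G) = b * t := (mem_centralizer_singleton_iff.1 b.2).symm
    let tx : ↥(centralizer ({(x' : ↥InstData.M.G)} : Set ↥InstData.M.G)) := ⟨t, mem_centralizer_singleton_iff.2 hxt.symm⟩
    let bx : ↥(centralizer ({(x' : ↥InstData.M.G)} : Set ↥InstData.M.G)) :=
      ⟨b, mem_centralizer_singleton_iff.2 hxb'.symm⟩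
    have hZxc : Nat.card ↥(Zx (x' : ↥InstData.M.G)) = 5 := by
      rw [Zx, Nat.card_zpowers]
      exact (Subgroup.orderOf_mk _ _).trans hx0
    have htxo : orderOf tx = 2 := by rw [← Subgroup.orderOf_coe]; exact ht
    have hbxo : orderOf bx = 19 := by
      rw [← Subgroup.orderOf_coe]
      show orderOf (b : ↥InstData.M.G) = 19
      rw [Subgroup.orderOf_coe, hb]
    have h3 := Red.orderOf_mk Nat.prime_two (Zx (x' : ↥InstData.M.G)) (by rw [hZxc]; norm_num) htxo
    have h4 := Red.orderOf_mk (by norm_num : Nat.Prime 19) (Zx (x' : ↥InstData.M.G)) (by rw [hZxc]; norm_num) hbxo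
    refine na_hn hHN _ _ h4 h3 ?_
    rw [← map_mul, ← map_mul]
    congr 1
    exact Subtype.ext htb.symm

theorem nc_five {L : Type u} [Group L] [Finite L] (h : Spor.IsoB L) {q a : ℕ} (hq : q.Prime) (h5 : 5 ≠ q)
    (hqd : q ^ a ∣ 4154781481226426191177580544000000) (hn : ¬ q ^ a ∣ 273030912000000 * 5) : NC 5 q L := by
  obtain ⟨y, hy, hc, -⟩ := exists_five h
  exact nc_of_dvd hq h5 hy (by rw [NotCT.Orders.b h]; exact hqd) hc hn

theorem nc_5_19 {L : Type u} [Group L] [Finite L] (h : Spor.IsoB L) : NC 5 19 L := by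
  obtain ⟨y, hy, -, hz⟩ := exists_five h
  exact nc_of_elem (by norm_num) (by norm_num) (by rw [NotCT.Orders.b h]; norm_num) hy hz

theorem not_adj_of {L : Type u} [Group L] {p q : ℕ} (hp : p.Prime) (hq : q.Prime)
    (h : ∀ x y : L, orderOf x = p → orderOf y = q → x * y ≠ y * x) : ¬ Cfsg.Agent.H163.PG.Adj L p q := by
  intro ha
  obtain ⟨x, y, hx, hy, hc⟩ := ha.exists_commute hp hq
  exact h x y hx hy hc

theorem adj_congr {L : Type u} [Group L] {K : Type*} [Group K] (e : L ≃* K) {p q : ℕ}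
    (h : Cfsg.Agent.H163.PG.Adj L p q) : Cfsg.Agent.H163.PG.Adj K p q := by
  obtain ⟨g, hg⟩ := h
  exact ⟨e g, by rw [MulEquiv.orderOf_eq, hg]⟩

/-- elements of orders 17 and 47, 11 and 47 -/
theorem no_47 {L : Type u} [Group L] [Finite L] (h3 : Three.{0}) (TB : Cfsg.Agent.OrdDiv.OrderTable.{0})
    (hS : ∀ (X : Type) [Group X] [Finite X] [IsSimpleGroup X], IsKnownSimple' X) (h : Spor.IsoB L) {p : ℕ}
    (hp : p = 11 ∨ p = 17) {x y : L} (hx : orderOf x = p) (hy : orderOf y = 47) : x * y ≠ y * x := by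
  have hfin := fin
  obtain ⟨t, ht, h2, ⟨e⟩⟩ := H979.OddB.exists_cover h
  have hpr : p.Prime ∧ p ≠ 2 := by rcases hp with rfl | rfl <;> norm_num
  refine ncomm_quot h2 e hpr.1 (by norm_num : Nat.Prime 47) hpr.2 (by norm_num) ?_ hx hy
  intro a b ha hb hat _ hab
  have h1 : 47 ∣ Nat.card ↥(centralizer ({a} : Set ↥InstData.M.G)) := by
    rw [← hb, ← Subgroup.orderOf_mk b (mem_centralizer_singleton_iff.2 hab.symm)]
    exact orderOf_dvd_natCard _
  rcases hp with rfl | rfl
  · rw [(H746.MEleven.cent_good TB hS ha (MThirteen.Row.ta_order ht) hat.symm).1] at h1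
    norm_num at h1
  · have h4 := h1.trans (H241.Mon.card_seventeen h3 ha)
    norm_num at h4

/-- 13 and 47 are not adjacent -/
theorem not_adj_13_47 (h3 : Three.{0}) (TB : Cfsg.Agent.OrdDiv.OrderTable.{0})
    (hS : ∀ (X : Type) [Group X] [Finite X] [IsSimpleGroup X], IsKnownSimple' X) {L : Type u} [Group L] [Finite L]
    [IsSimpleGroup L] (h : Spor.IsoB L) : ¬ Cfsg.Agent.H163.PG.Adj L 13 47 := by
  have hN := NotCT.Orders.b h
  have n47 : NA 47 L := Cfsg.Agent.H149.Sp.na_b_all h (by norm_num) (by norm_num) (by norm_num) (by norm_num)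
  refine Cfsg.Agent.H149.Sp.Eng.not_adj_single (s := 47) (t := 13) (a := 41) (M := 88399605983540982791012352000000)
    (L := [(3, 13), (5, 6), (7, 2), (11, 1), (13, 1), (17, 1), (19, 1), (23, 1), (31, 1)]) (ks := [2, 23, 46])
    (kills := [3, 7, 11, 17, 23, 31]) (by rw [hN])
    (by decide +kernel) (by norm_num) (by simp; norm_num)
    (by decide) (by norm_num) (by norm_num) (by decide +kernel) (by decide +kernel) n47 ?_
  intro t ht
  simp only [List.mem_cons, List.not_mem_nil, or_false] at ht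
  rcases ht with rfl | rfl | rfl | rfl | rfl | rfl
  · exact ⟨by norm_num, not_adj_of (by norm_num) (by norm_num) fun x y hx hy =>
      H979.OddB.nadj3 h (q := 47) (by simp) hx hy⟩
  · exact ⟨by norm_num, not_adj_of (by norm_num) (by norm_num) fun x y hx hy =>
      H979.OddB.nadj7 h (q := 47) (by simp) hx hy⟩
  · exact ⟨by norm_num, not_adj_of (by norm_num) (by norm_num) fun x y hx hy =>
      no_47 h3 TB hS h (Or.inl rfl) hx hy⟩
  · exact ⟨by norm_num, not_adj_of (by norm_num) (by norm_num) fun x y hx hy =>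
      no_47 h3 TB hS h (Or.inr rfl) hx hy⟩
  · exact ⟨by norm_num, not_adj_of (by norm_num) (by norm_num) fun x y hx hy hc =>
      no_23 h3 h (q := 47) (by simp) hy hx hc.symm⟩
  · refine ⟨by norm_num, fun ha => ?_⟩
    obtain ⟨e⟩ := h
    exact Cfsg.Agent.H149.Sp.not_adj_b (adj_congr e ha)

end Cfsg.Agent.H180.TH.Baby
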