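import Cfsg.Agent.H180.TriH.Mon

/-!
# Transitivity row (S4335): the Monster (helper180)
-/

set_option autoImplicit false
set_option maxRecDepth 100000
open Subgroup

namespace Cfsg.Agent.H180.TH

open Cfsg Cfsg.Agent.H630.NH Cfsg.Agent.H241.NH Cfsg.Agent.H393.Iso Cfsg.Agent.H241.Mon

/-- a pair of lists -/
theorem all_map {X : Type*} [Group X] {p : ℕ} {L : List ℕ} (h : ∀ q ∈ L, NC p q X) :
    ∀ a ∈ L.map fun q => (p, q), NC a.1 a.2 X := by
  intro a ha
  obtain ⟨q, hq, rfl⟩ := List.mem_map.1 ha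
  exact h q hq

theorem all_map' {X : Type*} [Group X] {p : ℕ} {L : List ℕ} (h : ∀ q ∈ L, NC q p X) :
    ∀ a ∈ L.map fun q => (p, q), NC a.1 a.2 X := by
  intro a ha
  obtain ⟨q, hq, rfl⟩ := List.mem_map.1 ha
  exact (h q hq).symm

theorem all_append {X : Type*} [Group X] {P Q : List (ℕ × ℕ)} (h : ∀ a ∈ P, NC a.1 a.2 X) (h' : ∀ a ∈ Q, NC a.1 a.2 X) :
    ∀ a ∈ P ++ Q, NC a.1 a.2 X := by
  intro a ha
  rcases List.mem_append.1 ha with h1 | h1
  · exact h a h1
  · exact h' a h1

theorem triH_m_model (h3 : Three.{0}) (TB : Cfsg.Agent.OrdDiv.OrderTable.{0})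
    (hS : ∀ (X : Type) [Group X] [Finite X] [IsSimpleGroup X], IsKnownSimple' X) : TriH Gam := by
  refine triH_of (N := 808017424794512875886459904961710757005754368000000000) (k := 46) card_G
    [(3, 20), (5, 9), (7, 6), (11, 2), (13, 3), (17, 1), (19, 1), (23, 1), (29, 1), (31, 1), (41, 1), (47, 1), (59, 1),
      (71, 1)]
    ((([5, 7, 11, 13, 17, 19, 23, 29, 31, 41, 47, 59, 71] : List ℕ).map fun q => (3, q)) ++
      ((([7, 11, 13, 17, 23, 29, 31, 41, 47, 59, 71] : List ℕ).map fun q => (5, q)) ++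
      ((([19] : List ℕ).map fun q => (5, q)) ++
      ((([11, 13, 19, 23, 29, 31, 41, 47, 59, 71] : List ℕ).map fun q => (7, q)) ++
      ((([7, 11, 13, 19, 23, 29, 31, 41, 47, 59, 71] : List ℕ).map fun q => (17, q)) ++
      ((([11, 13, 19, 23, 29, 31, 41, 47, 71] : List ℕ).map fun q => (59, q)) ++
      ((([19, 29, 31, 41, 47, 71] : List ℕ).map fun q => (23, q)) ++
      ((([13] : List ℕ).map fun q => (23, q)) ++
      (([13, 19, 23, 29, 31, 41, 47, 71] : List ℕ).map fun q => (11, q))))))))))
    (by decide) (by decide +kernel) ?_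
  refine all_append (all_map fun q hq => nc_three hq) <| all_append (all_map fun q hq => nc_five' hq) <|
    all_append (all_map ?_) <| all_append (all_map fun q hq => nc_seven' hq) <| all_append (all_map ?_) <|
    all_append (all_map ?_) <| all_append (all_map' ?_) <| all_append (all_map ?_) (all_map ?_)
  · intro q hq
    obtain rfl := List.mem_singleton.1 hq
    exact Mon.nc_5_19
  · intro q hq
    simp only [List.mem_cons, List.not_mem_nil, or_false] at hq
    rcases hq with rfl | rfl | rfl | rfl | rfl | rfl | rfl | rfl | rfl | rfl | rfl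
    · exact Mon.nc_17 h3 (a := 6) (by norm_num) (by norm_num) (by norm_num) (by norm_num)
    all_goals exact Mon.nc_17 h3 (a := 1) (by norm_num) (by norm_num) (by norm_num) (by norm_num)
  · intro q hq
    simp only [List.mem_cons, List.not_mem_nil, or_false] at hq
    rcases hq with rfl | rfl | rfl | rfl | rfl | rfl | rfl | rfl | rfl <;>
      exact Mon.nc_59 hS (by norm_num) (by norm_num) (by norm_num)
  · intro q hq
    refine Mon.nc_23 h3 ?_
    simp only [List.mem_cons, List.not_mem_nil, or_false] at hq ⊢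
    tauto
  · intro q hq
    obtain rfl := List.mem_singleton.1 hq
    exact Mon.nc_23_13 h3
  · intro q hq
    simp only [List.mem_cons, List.not_mem_nil, or_false] at hq
    rcases hq with rfl | rfl | rfl | rfl | rfl | rfl | rfl | rfl <;>
      exact Mon.nc_11 TB hS (a := 1) (by norm_num) (by norm_num) (by norm_num) (by norm_num)

/-- **The Monster** -/
theorem triH_m (h3 : Three.{0}) (TB : Cfsg.Agent.OrdDiv.OrderTable.{0})
    (hS : ∀ (X : Type) [Group X] [Finite X] [IsSimpleGroup X], IsKnownSimple' X) {G : Type*} [Group G]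
    (h : Spor.IsoM G) : TriH G := by
  obtain ⟨e⟩ := h
  obtain ⟨f⟩ := Cfsg.Agent.MonsterP.Equiv.equiv
  exact (triH_m_model h3 TB hS).congr (e.trans f).symm

end Cfsg.Agent.H180.TH
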