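import Cfsg.Agent.H180.TriH.RowsA
import Cfsg.Agent.H164.LyNHc
import Cfsg.Agent.H96.Reg.Ly
import Cfsg.Agent.H257.El.Row.Ly

/-!
# Transitivity rows (S4335): `Ly` (helper180)
-/

set_option autoImplicit false
set_option maxRecDepth 100000
open Cfsg Subgroup

namespace Cfsg.Agent.H180.TH

open Cfsg.Agent.H630.NH Cfsg.Agent.H241.NH Cfsg.Agent.H393.Iso

universe u

/-- not adjacent in the prime graph -/
theorem nc_of_not_adj {X : Type*} [Group X] [Finite X] {p q : ℕ} (hp : p.Prime) (hq : q.Prime) (hpq : p ≠ q)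
    (hpd : p ∣ Nat.card X) (hqd : q ∣ Nat.card X) (h : ¬ Cfsg.Agent.H163.PG.Adj X p q) : NC p q X :=
  nc_of_noOrd hp hq hpq hpd hqd fun z hz => h ⟨z, hz⟩

theorem ly_31_67 {G : Type*} [Group G] [Finite G] (h : Spor.IsoLy G) : ¬ Cfsg.Agent.H163.PG.Adj G 31 67 := by
  obtain ⟨-, hs, hN, -⟩ := TypeM.FactsLy.facts h
  have n31 : NA 31 G := Cfsg.Agent.H149.Sp.na_ly_all h (by norm_num) (by norm_num) (by norm_num)
  have n67 : NA 67 G := Cfsg.Agent.H149.Sp.na_ly_all h (by norm_num) (by norm_num) (by norm_num)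
  exact Cfsg.Agent.H149.Sp.Eng.not_adj (r := 31) (s := 67) (a := 8) (M := 24923052000000)
    (L := [(3, 7), (5, 6), (7, 1), (11, 1), (37, 1)]) (ks := [2, 3, 6, 11, 22, 33, 66]) (kills := []) (by rw [hN])
    (by decide +kernel) (by norm_num) (by simp; norm_num)
    (by decide) (by decide +kernel) (by decide +kernel) (by decide +kernel) n31 n67 (by simp)

theorem triH_ly (tab : Cfsg.Agent.OrdDiv.OrderTable.{u}) (known : Cfsg.Agent.H257.El.Known.{u}) {G : Type u} [Group G]
    [Finite G] (h : Spor.IsoLy G) : TriH G := by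
  have hN := NotCT.Orders.ly h
  have n1 : NC 67 7 G := nc_of_noOrd (by norm_num) (by norm_num) (by norm_num) (by rw [hN]; norm_num)
    (by rw [hN]; norm_num) (Cfsg.Agent.H257.El.Row.noOrd_ly tab known h)
  have n2 : NC 31 67 G := nc_of_not_adj (by norm_num) (by norm_num) (by norm_num) (by rw [hN]; norm_num)
    (by rw [hN]; norm_num) (ly_31_67 h)
  have n3 : NC 67 37 G := nc_of_not_adj (by norm_num) (by norm_num) (by norm_num) (by rw [hN]; norm_num)
    (by rw [hN]; norm_num) (Cfsg.Agent.H96.Reg.ly_37_67 h)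
  obtain ⟨e⟩ := h
  have hcard : Nat.card Spor.Ly = 51765179004000000 := by rw [← Nat.card_congr e.toEquiv, hN]
  have hfive : ∀ q, q.Prime → q ≠ 2 → q ≠ 5 → q ∣ 51765179004000000 → NC 5 q G := fun q hq h2 h5 hd =>
    (Cfsg.Agent.H164.LyNH.nc_five hq h2 h5 (by rwa [hcard])).congr e.symm
  refine triH_of (N := 51765179004000000) (k := 8) hN
    [(3, 7), (5, 6), (7, 1), (11, 1), (31, 1), (37, 1), (67, 1)]
    [(5, 3), (3, 7), (3, 11), (3, 31), (3, 37), (3, 67), (5, 7), (5, 11), (5, 31), (5, 37), (5, 67), (67, 7), (31, 67),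
      (67, 37)] ?_ ?_ ?_
  · decide
  · decide
  · intro a ha
    simp only [List.mem_cons, List.not_mem_nil, or_false] at ha
    rcases ha with rfl | rfl | rfl | rfl | rfl | rfl | rfl | rfl | rfl | rfl | rfl | rfl | rfl | rfl
    · exact hfive _ (by norm_num) (by norm_num) (by norm_num) (by norm_num)
    · exact Cfsg.Agent.H164.LyNH.nc_three_seven.congr e.symm
    · exact Cfsg.Agent.H164.LyNH.nc_three_eleven.congr e.symm
    · exact (Cfsg.Agent.H164.LyNH.nc_three_big (by norm_num) (by norm_num) (by norm_num) (by norm_num)).congr e.symm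
    · exact (Cfsg.Agent.H164.LyNH.nc_three_big (by norm_num) (by norm_num) (by norm_num) (by norm_num)).congr e.symm
    · exact (Cfsg.Agent.H164.LyNH.nc_three_big (by norm_num) (by norm_num) (by norm_num) (by norm_num)).congr e.symm
    · exact hfive _ (by norm_num) (by norm_num) (by norm_num) (by norm_num)
    · exact hfive _ (by norm_num) (by norm_num) (by norm_num) (by norm_num)
    · exact hfive _ (by norm_num) (by norm_num) (by norm_num) (by norm_num)
    · exact hfive _ (by norm_num) (by norm_num) (by norm_num) (by norm_num)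
    · exact hfive _ (by norm_num) (by norm_num) (by norm_num) (by norm_num)
    · exact n1
    · exact n2
    · exact n3

end Cfsg.Agent.H180.TH
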