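import Cfsg.Agent.H180.TriH.Cover
import Cfsg.Agent.H180.TriH.RowM
import Cfsg.Agent.H180.TriH.RowsF
import Cfsg.Agent.H979.OddB
import Cfsg.Agent.H149.Sp.Baby

/-!
# Non-adjacent primes in the Baby Monster (helper180)

* `nc_of_cover` : `NC p q` in `B` from a bound of `|C(a) ∩ C(t)|` in the Monster, `a` of order `p`, `t` of class 2A;
* `not_adj_13_47`.
-/

set_option autoImplicit false
set_option maxRecDepth 100000
open Subgroup

namespace Cfsg.Agent.H180.TH.Baby

open Cfsg Cfsg.Agent.H630.NH Cfsg.Agent.H241.NH Cfsg.Agent.H393.Iso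
open Cfsg.Agent.H979.CovLift
open Cfsg.Agent.MonsterX Cfsg.Agent.MonsterX.InstData
open Cfsg.Agent.LThreeMB (XX mk mk_eq_mk mk_eq_one)

universe u

theorem fin : Finite ↥InstData.M.G := MThirteen.Row.finite

/-- **`NC` from the Monster** -/
theorem nc_of_cover {L : Type u} [Group L] [Finite L] (h : Spor.IsoB L) {p q a : ℕ} (hp : p.Prime) (hp2 : p ≠ 2)
    (hq : q.Prime) (hpq : p ≠ q) (hpd : p ∣ 4154781481226426191177580544000000)
    (hqd : q ^ a ∣ 4154781481226426191177580544000000)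
    (key : ∀ x t : ↥InstData.M.G, orderOf x = p → LThreeB.Row.TA t → x * t = t * x →
      ¬ q ^ a ∣ Nat.card ↥(centralizer ({x} : Set ↥InstData.M.G) ⊓ centralizer ({t} : Set ↥InstData.M.G))) :
    NC p q L := by
  have hfin := fin
  have hN := NotCT.Orders.b h
  obtain ⟨t, ht, h2, ⟨e⟩⟩ := H979.OddB.exists_cover h
  have : Fact p.Prime := ⟨hp⟩
  obtain ⟨y, hy⟩ := exists_prime_orderOf_dvd_card' (G := L) p (by rw [hN]; exact hpd)
  obtain ⟨x, hx, hx'⟩ := exists_lift h2 hp hp2 (x := e.symm y) (by rw [MulEquiv.orderOf_eq, hy])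
  have h1 := card_dvd h2 e (x := x) (n := p) (hp.odd_of_ne_two hp2) (by rw [← hx, pow_orderOf_eq_one])
  rw [hx', e.apply_symm_apply] at h1
  refine nc_of_card (a := a) hq hpq ⟨1, by rw [hy, pow_one]⟩ (by rw [hN]; exact hqd) fun hd => ?_
  exact key x t (by rw [Subgroup.orderOf_coe, hx]) ht (mem_centralizer_singleton_iff.1 x.2) (hd.trans h1)

/-- **`NC` from the Monster**, bound of the centralizer -/
theorem nc_of_cover' {L : Type u} [Group L] [Finite L] (h : Spor.IsoB L) {p q a n : ℕ} (hp : p.Prime) (hp2 : p ≠ 2)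
    (hq : q.Prime) (hpq : p ≠ q) (hpd : p ∣ 4154781481226426191177580544000000)
    (hqd : q ^ a ∣ 4154781481226426191177580544000000) (hn : ¬ q ^ a ∣ n)
    (key : ∀ x t : ↥InstData.M.G, orderOf x = p → LThreeB.Row.TA t → x * t = t * x →
      Nat.card ↥(centralizer ({x} : Set ↥InstData.M.G)) ∣ n) :
    NC p q L :=
  nc_of_cover h hp hp2 hq hpq hpd hqd fun x t hx ht hxt hd =>
    hn ((hd.trans (card_dvd_of_le inf_le_left)).trans (key x t hx ht hxt))

theorem nc_three {L : Type u} [Group L] [Finite L] (h : Spor.IsoB L) {q : ℕ} (hq : q ∈ [17, 19, 23, 31, 47]) :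
    NC 3 q L := by
  have hN := NotCT.Orders.b h
  have hpr : q.Prime ∧ 3 ≠ q ∧ q ∣ 4154781481226426191177580544000000 := by
    simp only [List.mem_cons, List.not_mem_nil, or_false] at hq
    rcases hq with rfl | rfl | rfl | rfl | rfl <;> norm_num
  exact nc_of_noComm Nat.prime_three hpr.1 hpr.2.1 (by rw [hN]; norm_num) (by rw [hN]; exact hpr.2.2)
    fun x y hx hy => H979.OddB.nadj3 h hq hx hy

theorem nc_seven {L : Type u} [Group L] [Finite L] (h : Spor.IsoB L) {q : ℕ} (hq : q ∈ [11, 13, 19, 23, 31, 47]) :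
    NC 7 q L := by
  have hN := NotCT.Orders.b h
  have hpr : q.Prime ∧ 7 ≠ q ∧ q ∣ 4154781481226426191177580544000000 := by
    simp only [List.mem_cons, List.not_mem_nil, or_false] at hq
    rcases hq with rfl | rfl | rfl | rfl | rfl | rfl <;> norm_num
  exact nc_of_noComm (by norm_num) hpr.1 hpr.2.1 (by rw [hN]; norm_num) (by rw [hN]; exact hpr.2.2)
    fun x y hx hy => H979.OddB.nadj7 h hq hx hy

/-- `(7, 3)`, `(7, 5)` -/
theorem nc_seven' {L : Type u} [Group L] [Finite L] (h : Spor.IsoB L) {q a : ℕ} (hq : q.Prime) (h7 : 7 ≠ q)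
    (hqd : q ^ a ∣ 4154781481226426191177580544000000) (hn : ¬ q ^ a ∣ 4030387200 * 7) : NC 7 q L :=
  nc_of_cover' h (by norm_num) (by norm_num) hq h7 (by norm_num) hqd hn fun x t hx ht hxt => by
    have hfin := fin
    rw [H478.SporBaby.card_cent (v := t) ht hx hxt]

theorem nc_thirteen {L : Type u} [Group L] [Finite L] (h : Spor.IsoB L) : NC 13 3 L :=
  nc_of_cover h (a := 2) (by norm_num) (by norm_num) (by norm_num) (by norm_num) (by norm_num) (by norm_num)
    fun x t hx ht hxt => by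
      have h1 := MThirteen.Row.not_nine LThreeMB.CoOneFin.coOne hx ht hxt
      norm_num
      exact h1

theorem nc_seventeen {L : Type u} [Group L] [Finite L] (h3 : Three.{0}) (h : Spor.IsoB L) {q a : ℕ} (hq : q.Prime)
    (h17 : 17 ≠ q) (hqd : q ^ a ∣ 4154781481226426191177580544000000) (hn : ¬ q ^ a ∣ 168 * 17) : NC 17 q L :=
  nc_of_cover' h (by norm_num) (by norm_num) hq h17 (by norm_num) hqd hn fun x t hx ht hxt =>
    H241.Mon.card_seventeen h3 hx

theorem nc_eleven {L : Type u} [Group L] [Finite L] (TB : Cfsg.Agent.OrdDiv.OrderTable.{0})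
    (hS : ∀ (X : Type) [Group X] [Finite X] [IsSimpleGroup X], IsKnownSimple' X) (h : Spor.IsoB L) {q a : ℕ}
    (hq : q.Prime) (h11 : 11 ≠ q) (hqd : q ^ a ∣ 4154781481226426191177580544000000) (hn : ¬ q ^ a ∣ 11 * 95040) :
    NC 11 q L :=
  nc_of_cover' h (by norm_num) (by norm_num) hq h11 (by norm_num) hqd hn fun x t hx ht hxt =>
    (H746.MEleven.cent_good TB hS hx (MThirteen.Row.ta_order ht) hxt.symm).1.dvd

/-- elements of orders 23 and `q` -/
theorem no_23 {L : Type u} [Group L] [Finite L] (h3 : Three.{0}) (h : Spor.IsoB L) {q : ℕ}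
    (hq : q ∈ [17, 19, 31, 47]) {x y : L} (hx : orderOf x = q) (hy : orderOf y = 23) : x * y ≠ y * x := by
  have hfin := fin
  obtain ⟨t, ht, h2, ⟨e⟩⟩ := H979.OddB.exists_cover h
  have hpr : q.Prime ∧ q ≠ 2 := by
    simp only [List.mem_cons, List.not_mem_nil, or_false] at hq
    rcases hq with rfl | rfl | rfl | rfl <;> norm_num
  refine ncomm_quot h2 e hpr.1 (by norm_num : Nat.Prime 23) hpr.2 (by norm_num) ?_ hx hy
  intro a b ha hb _ _
  refine Mon.no_23_q h3 ?_ a b ha hb
  simp only [List.mem_cons, List.not_mem_nil, or_false] at hq ⊢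
  tauto

theorem nc_23 {L : Type u} [Group L] [Finite L] (h3 : Three.{0}) (h : Spor.IsoB L) {q : ℕ}
    (hq : q ∈ [17, 19, 31, 47]) : NC q 23 L := by
  have hN := NotCT.Orders.b h
  have hpr : q.Prime ∧ q ≠ 23 ∧ q ∣ 4154781481226426191177580544000000 := by
    simp only [List.mem_cons, List.not_mem_nil, or_false] at hq
    rcases hq with rfl | rfl | rfl | rfl <;> norm_num
  exact nc_of_noComm hpr.1 (by norm_num) hpr.2.1 (by rw [hN]; exact hpr.2.2) (by rw [hN]; norm_num)
    fun x y hx hy => no_23 h3 h hq hx hy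

end Cfsg.Agent.H180.TH.Baby
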