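import Cfsg.Agent.H165.Tri
import Cfsg.Agent.H241.NHBase

/-!
# Transitivity rows, version with a Hall subgroup (input of S4335, helper180)

`TriH X` : for three different odd primes `r, q₁, q₂` dividing `|X|`: if `Cond {r, q₁} X`, `Cond {r, q₂} X` and an element of
order `r` centralizes a Hall `{q₁, q₂}`-subgroup of `X` then `Cond {q₁, q₂} X`.

* `Tri.triH`;
* `cond_of_good` : if no power `≠ 1` of `q₁` dividing `|X|` is 1 modulo `q₂` and conversely, a Hall `{q₁, q₂}`-subgroup is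
  nilpotent and `Cond {q₁, q₂} X`;
* `triH_of` : the assembly of a row.
-/

set_option autoImplicit false
open Subgroup

namespace Cfsg.Agent.H180.TH

open Cfsg.Agent.H630.NH Cfsg.Agent.H241.NH Cfsg.Agent.H165.TriRow

universe u v

/-- an element of order `r` centralizes a Hall `{q₁, q₂}`-subgroup -/
def HallC (r q₁ q₂ : ℕ) (X : Type u) [Group X] : Prop :=
  ∃ (x : X) (K : Subgroup X), orderOf x = r ∧ (∀ k ∈ K, k * x = x * k) ∧
    (∀ s : ℕ, s.Prime → s ∣ Nat.card K → s = q₁ ∨ s = q₂) ∧ ¬ q₁ ∣ K.index ∧ ¬ q₂ ∣ K.index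

/-- Transitivity of `Cond {p, q}` for odd primes if an element of order `r` centralizes a Hall `{q₁, q₂}`-subgroup. -/
def TriH (X : Type u) [Group X] : Prop :=
  ∀ r q₁ q₂ : ℕ, r.Prime → q₁.Prime → q₂.Prime → r ≠ 2 → q₁ ≠ 2 → q₂ ≠ 2 →
    r ≠ q₁ → r ≠ q₂ → q₁ ≠ q₂ → r ∣ Nat.card X → q₁ ∣ Nat.card X → q₂ ∣ Nat.card X →
    Cond {r, q₁} X → Cond {r, q₂} X →
    (∃ (x : X) (K : Subgroup X), orderOf x = r ∧ (∀ k ∈ K, k * x = x * k) ∧
      (∀ s : ℕ, s.Prime → s ∣ Nat.card K → s = q₁ ∨ s = q₂) ∧ ¬ q₁ ∣ K.index ∧ ¬ q₂ ∣ K.index) →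
    Cond {q₁, q₂} X

theorem Tri.triH {X : Type u} [Group X] (h : Tri X) : TriH X :=
  fun r q₁ q₂ a b c d e f g i j k l m n o _ => h r q₁ q₂ a b c d e f g i j k l m n o

theorem HallC.congr {r q₁ q₂ : ℕ} {X : Type u} {Y : Type v} [Group X] [Group Y] (e : X ≃* Y) (h : HallC r q₁ q₂ X) :
    HallC r q₁ q₂ Y := by
  obtain ⟨x, K, hx, hK, hp, h1, h2⟩ := h
  have hi : (K.map e.toMonoidHom).index = K.index := Subgroup.index_map_equiv K e
  refine ⟨e x, K.map e.toMonoidHom, by rw [MulEquiv.orderOf_eq, hx], ?_, ?_, by rw [hi]; exact h1, by rw [hi]; exact h2⟩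
  · rintro _ ⟨k, hk, rfl⟩
    change e k * e x = e x * e k
    rw [← map_mul, hK k hk, map_mul]
  · intro s hs hd
    refine hp s hs ?_
    rwa [Subgroup.card_map_of_injective e.injective] at hd

theorem TriH.congr {X : Type u} {Y : Type v} [Group X] [Group Y] (e : X ≃* Y) (h : TriH X) : TriH Y := by
  intro r q₁ q₂ hr h₁ h₂ a b c g i j k l m hc₁ hc₂ hH
  rw [← Nat.card_congr e.toEquiv] at k l m
  exact (h r q₁ q₂ hr h₁ h₂ a b c g i j k l m (hc₁.congr e.symm) (hc₂.congr e.symm)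
    (HallC.congr e.symm hH)).congr e

section hall

variable {X : Type u} [Group X] [Finite X]

/-- the Sylow `p`-subgroups of a `{p, q}`-group `K` are normal if no power of `q` dividing `|K|` is 1 modulo `p` -/
theorem normal_of_good {K : Type*} [Group K] [Finite K] {p q : ℕ} [hp : Fact p.Prime]
    (hpr : ∀ s : ℕ, s.Prime → s ∣ Nat.card K → s = p ∨ s = q)
    (hg : ∀ j : ℕ, 1 ≤ j → q ^ j ∣ Nat.card K → q ^ j % p ≠ 1) (P : Sylow p K) : (P : Subgroup K).Normal := by
  rw [← Subgroup.normalizer_eq_top_iff, ← Subgroup.index_eq_one]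
  set n := (normalizer ((P : Subgroup K) : Set K)).index with hn
  have h1 : n % p = 1 := by
    have h2 := card_sylow_modEq_one p K
    rw [Sylow.card_eq_index_normalizer P] at h2
    have h3 : n % p = 1 % p := h2
    rwa [Nat.mod_eq_of_lt hp.1.one_lt] at h3
  have hd : n ∣ Nat.card K := Subgroup.index_dvd_card _
  have hpn : ¬ p ∣ n := by
    intro h
    rw [Nat.mod_eq_zero_of_dvd h] at h1
    exact absurd h1 (by norm_num)
  have hn0 : n ≠ 0 := by
    intro h0
    rw [h0] at hpn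
    exact hpn (dvd_zero p)
  -- `n` is a power of `q`
  obtain ⟨j, hj⟩ : ∃ j : ℕ, n = q ^ j := by
    refine ⟨n.factorization q, ?_⟩
    conv_lhs => rw [← Nat.prod_factorization_pow_eq_self hn0]
    refine Finsupp.prod_eq_single q (fun s hs hsq => ?_) (fun _ => ?_)
    · exfalso
      have hs' : s.Prime := Nat.prime_of_mem_primeFactors (by
        rw [← Nat.support_factorization]; exact Finsupp.mem_support_iff.2 hs)
      have hsn : s ∣ n := Nat.dvd_of_mem_primeFactors (by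
        rw [← Nat.support_factorization]; exact Finsupp.mem_support_iff.2 hs)
      rcases hpr s hs' (hsn.trans hd) with h | h
      · exact hpn (h ▸ hsn)
      · exact hsq h
    · exact pow_zero _
  rcases Nat.eq_zero_or_pos j with h0 | h0
  · rw [hj, h0, pow_zero]
  · exfalso
    rw [hj] at hd h1
    exact hg j h0 hd h1

/-- **Commuting Sylow subgroups.** -/
theorem cond_of_comm {p q : ℕ} (hp : p.Prime) (hq : q.Prime) {P Q : Subgroup X} (hP : IsPGroup p P)
    (hQ : IsPGroup q Q) (hPi : ¬ p ∣ P.index) (hQi : ¬ q ∣ Q.index) (hc : ∀ a ∈ P, ∀ b ∈ Q, a * b = b * a) :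
    Cond {p, q} X := by
  have main : ∀ {p q : ℕ} (_ : p.Prime) (_ : q.Prime) {P Q : Subgroup X} (_ : IsPGroup p P)
      (_ : IsPGroup q Q) (_ : ¬ p ∣ P.index) (_ : ¬ q ∣ Q.index) (_ : ∀ a ∈ P, ∀ b ∈ Q, a * b = b * a),
      ∀ x : X, (∃ k : ℕ, orderOf x = p ^ k) → ¬ q ∣ (Subgroup.centralizer ({x} : Set X)).index := by
    intro p q hp hq P Q hP hQ hPi hQi hc x hx hd
    have : Fact p.Prime := ⟨hp⟩
    obtain ⟨k, hk⟩ := hx
    have hxp : IsPGroup p (Subgroup.zpowers x) := by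
      rw [IsPGroup.iff_card]
      exact ⟨k, by rw [Nat.card_zpowers, hk]⟩
    obtain ⟨g, hg⟩ := exists_conj_le p (Subgroup.zpowers x) hxp P hPi
    have h1 := hg x (Subgroup.mem_zpowers x)
    have h2 : Q ≤ Subgroup.centralizer ({g * x * g⁻¹} : Set X) := by
      intro y hy
      rw [Subgroup.mem_centralizer_singleton_iff]
      exact (hc _ h1 y hy).symm
    have h3 : (Subgroup.centralizer ({g * x * g⁻¹} : Set X)).index = (Subgroup.centralizer ({x} : Set X)).index := by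
      have h4 := centralizer_map_equiv (MulAut.conj g) x
      have h5 : (MulAut.conj g) x = g * x * g⁻¹ := rfl
      rw [h5] at h4
      rw [h4]
      exact Subgroup.index_map_equiv _ _
    rw [← h3] at hd
    exact hQi (hd.trans (Subgroup.index_dvd_of_le h2))
  intro a ha b hb hab x hx
  rcases ha with rfl | rfl <;> rcases hb with rfl | rfl
  · exact absurd rfl hab
  · exact main hp hq hP hQ hPi hQi hc x hx
  · exact main hq hp hQ hP hQi hPi (fun a ha b hb => (hc b hb a ha).symm) x hx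
  · exact absurd rfl hab

theorem index_map_sylow {p : ℕ} [hp : Fact p.Prime] (K : Subgroup X) (hK : ¬ p ∣ K.index) (P : Sylow p K) :
    ¬ p ∣ ((P : Subgroup K).map K.subtype).index := by
  have h1 : ((P : Subgroup K).map K.subtype).index = (P : Subgroup K).index * K.index := by
    rw [Subgroup.index_map, Subgroup.ker_subtype, sup_bot_eq, Subgroup.range_subtype]
  rw [h1]
  intro hd
  rcases hp.1.dvd_mul.1 hd with h | h
  · exact P.not_dvd_index h
  · exact hK h

/-- **A nilpotent Hall subgroup.** -/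
theorem cond_of_good {p q : ℕ} (hp : p.Prime) (hq : q.Prime) (hpq : p ≠ q) (K : Subgroup X)
    (hpr : ∀ s : ℕ, s.Prime → s ∣ Nat.card K → s = p ∨ s = q) (h1 : ¬ p ∣ K.index) (h2 : ¬ q ∣ K.index)
    (hg : ∀ j : ℕ, 1 ≤ j → q ^ j ∣ Nat.card X → q ^ j % p ≠ 1)
    (hg' : ∀ j : ℕ, 1 ≤ j → p ^ j ∣ Nat.card X → p ^ j % q ≠ 1) : Cond {p, q} X := by
  have hp' : Fact p.Prime := ⟨hp⟩
  have hq' : Fact q.Prime := ⟨hq⟩
  have hd : Nat.card K ∣ Nat.card X := card_subgroup_dvd_card K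
  obtain ⟨P⟩ : Nonempty (Sylow p K) := inferInstance
  obtain ⟨Q⟩ : Nonempty (Sylow q K) := inferInstance
  have hPn := normal_of_good hpr (fun j hj hjd => hg j hj (hjd.trans hd)) P
  have hQn := normal_of_good (fun s hs hsd => (hpr s hs hsd).symm) (fun j hj hjd => hg' j hj (hjd.trans hd)) Q
  have hdis : Disjoint (P : Subgroup K) (Q : Subgroup K) := by
    refine IsPGroup.disjoint_of_ne p q hpq _ _ P.isPGroup' Q.isPGroup'
  refine cond_of_comm hp hq (P := (P : Subgroup K).map K.subtype) (Q := (Q : Subgroup K).map K.subtype)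
    (P.isPGroup'.map _) (Q.isPGroup'.map _) (index_map_sylow K h1 P) (index_map_sylow K h2 Q) ?_
  rintro _ ⟨a, ha, rfl⟩ _ ⟨b, hb, rfl⟩
  exact congrArg Subtype.val (Subgroup.commute_of_normal_of_disjoint _ _ hPn hQn hdis a b ha hb).eq

end hall

/-! ### Assembly -/

/-- no power of `b`, up to the exponent in `l`, is 1 modulo `a` -/
def okB (l : List (ℕ × ℕ)) (a b : ℕ) : Bool :=
  l.all fun x => (x.1 != b) || (List.range x.2).all fun i => b ^ (i + 1) % a != 1

/-- the check of the data -/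
def chkT (N k : ℕ) (l : List (ℕ × ℕ)) (P : List (ℕ × ℕ)) : Bool :=
  ((2 * (l.map Prod.fst).prod) ^ k % N == 0) && (l.all fun x => N % x.1 ^ (x.2 + 1) != 0) &&
  (l.all fun r => l.all fun a => l.all fun b => (r.1 == a.1) || (r.1 == b.1) || (a.1 == b.1) ||
    (okB l a.1 b.1 && okB l b.1 a.1) || P.contains (r.1, a.1) || P.contains (a.1, r.1) || P.contains (r.1, b.1) ||
    P.contains (b.1, r.1))

theorem okB_spec {N : ℕ} {l : List (ℕ × ℕ)} (hl : ∀ x ∈ l, N % x.1 ^ (x.2 + 1) ≠ 0) {a b : ℕ} (h : okB l a b = true)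
    (hb : ∃ e, (b, e) ∈ l) {j : ℕ} (hj : 1 ≤ j) (hd : b ^ j ∣ N) : b ^ j % a ≠ 1 := by
  obtain ⟨e, he⟩ := hb
  unfold okB at h
  rw [List.all_eq_true] at h
  have h1 := h (b, e) he
  rw [Bool.or_eq_true, List.all_eq_true] at h1
  rcases h1 with h1 | h1
  · simp at h1
  have hje : j ≤ e := by
    by_contra hc
    have h2 : b ^ (e + 1) ∣ N := (pow_dvd_pow b (by omega)).trans hd
    exact hl (b, e) he (Nat.mod_eq_zero_of_dvd h2)
  have h2 := h1 (j - 1) (List.mem_range.2 (by omega))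
  rw [Nat.sub_add_cancel hj] at h2
  simpa using h2

/-- **The assembly of a row.**  `l`: the odd prime divisors of `N = |X|` with exponents; `P`: pairs with `NC`. -/
theorem triH_of {X : Type u} [Group X] [Finite X] (N k : ℕ) (hN : Nat.card X = N) (l P : List (ℕ × ℕ))
    (hlp : ∀ x ∈ l, x.1.Prime) (hchk : chkT N k l P = true) (hP : ∀ a ∈ P, NC a.1 a.2 X) : TriH X := by
  unfold chkT at hchk
  rw [Bool.and_eq_true, Bool.and_eq_true, List.all_eq_true, List.all_eq_true] at hchk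
  obtain ⟨⟨hk, hl⟩, hT⟩ := hchk
  have hl' : ∀ x ∈ l, N % x.1 ^ (x.2 + 1) ≠ 0 := fun x hx => by simpa using hl x hx
  have hmem : ∀ p : ℕ, p.Prime → p ≠ 2 → p ∣ Nat.card X → ∃ e, (p, e) ∈ l := by
    intro p hp hp2 hd
    rw [hN] at hd
    have h1 : p ∈ l.map Prod.fst := by
      refine mem_of_dvd (L := l.map Prod.fst) (N := N) (k := k) ?_ (by simpa using hk) hp hp2 hd
      intro q hq
      obtain ⟨x, hx, rfl⟩ := List.mem_map.1 hq
      exact hlp x hx
    obtain ⟨x, hx, rfl⟩ := List.mem_map.1 h1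
    exact ⟨x.2, hx⟩
  intro r q₁ q₂ hr h₁ h₂ a b c g i j kk ll mm hc₁ hc₂ ⟨x, K, hx, hK, hpr, hi1, hi2⟩
  obtain ⟨er, her⟩ := hmem r hr a kk
  obtain ⟨e1, he1⟩ := hmem q₁ h₁ b ll
  obtain ⟨e2, he2⟩ := hmem q₂ h₂ c mm
  have h1 := List.all_eq_true.1 (List.all_eq_true.1 (hT _ her) _ he1) _ he2
  simp only [Bool.or_eq_true, Bool.and_eq_true, beq_iff_eq, List.contains_iff_mem] at h1
  rcases h1 with ((((((h1 | h1) | h1) | h1) | h1) | h1) | h1) | h1
  · exact absurd h1 g
  · exact absurd h1 i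
  · exact absurd h1 j
  · refine cond_of_good h₁ h₂ j K hpr hi1 hi2 ?_ ?_
    · intro n hn hd
      rw [hN] at hd
      exact okB_spec hl' h1.1 ⟨e2, he2⟩ hn hd
    · intro n hn hd
      rw [hN] at hd
      exact okB_spec hl' h1.2 ⟨e1, he1⟩ hn hd
  · exact absurd hc₁ (hP _ h1)
  · exact absurd hc₁ (hP _ h1).symm
  · exact absurd hc₂ (hP _ h1)
  · exact absurd hc₂ (hP _ h1).symm

/-- non-adjacent primes -/
theorem nc_of_noOrd {X : Type u} [Group X] [Finite X] {p q : ℕ} (hp : p.Prime) (hq : q.Prime) (hpq : p ≠ q)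
    (hpd : p ∣ Nat.card X) (hqd : q ∣ Nat.card X) (h : ∀ z : X, orderOf z ≠ p * q) : NC p q X := by
  have : Fact p.Prime := ⟨hp⟩
  obtain ⟨x, hx⟩ := exists_prime_orderOf_dvd_card' (G := X) p hpd
  refine nc_of_elem hq hpq hqd hx fun y hy hc => h (x * y) ?_
  have hc' : Commute x y := hc
  rw [hc'.orderOf_mul_eq_mul_orderOf_of_coprime (by rw [hx, hy]; exact (Nat.coprime_primes hp hq).2 hpq), hx, hy]

/-- non-adjacent primes -/
theorem nc_of_noComm {X : Type u} [Group X] [Finite X] {p q : ℕ} (hp : p.Prime) (hq : q.Prime) (hpq : p ≠ q)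
    (hpd : p ∣ Nat.card X) (hqd : q ∣ Nat.card X)
    (h : ∀ x y : X, orderOf x = p → orderOf y = q → x * y ≠ y * x) : NC p q X := by
  have : Fact p.Prime := ⟨hp⟩
  obtain ⟨x, hx⟩ := exists_prime_orderOf_dvd_card' (G := X) p hpd
  exact nc_of_elem hq hpq hqd hx fun y hy hc => h x y hx hy hc

end Cfsg.Agent.H180.TH
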