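import Cfsg.Agent.H180.TriH.RowBM

/-!
# Transitivity row (S4335): the Baby Monster (helper180)
-/

set_option autoImplicit false
set_option maxRecDepth 100000

namespace Cfsg.Agent.H180.TH

open Cfsg Cfsg.Agent.H630.NH Cfsg.Agent.H241.NH Cfsg.Agent.H393.Iso

universe u

/-- **The Baby Monster** -/
theorem triH_b (h3 : Three.{0}) (TB : Cfsg.Agent.OrdDiv.OrderTable.{0})
    (hS : ∀ (X : Type) [Group X] [Finite X] [IsSimpleGroup X], IsKnownSimple' X) {L : Type u} [Group L] [Finite L]
    [IsSimpleGroup L] (h : Spor.IsoB L) : TriH L := by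
  have hN := NotCT.Orders.b h
  refine triH_of (N := 4154781481226426191177580544000000) (k := 41) hN
    [(3, 13), (5, 6), (7, 2), (11, 1), (13, 1), (17, 1), (19, 1), (23, 1), (31, 1), (47, 1)]
    ((([17, 19, 23, 31, 47] : List ℕ).map fun q => (3, q)) ++
      ((([11, 13, 19, 23, 31, 47] : List ℕ).map fun q => (7, q)) ++
      ((([3, 5] : List ℕ).map fun q => (7, q)) ++
      ((([3, 7, 13, 17, 23, 31, 47] : List ℕ).map fun q => (5, q)) ++
      ((([19] : List ℕ).map fun q => (5, q)) ++
      ((([3, 5, 7, 13, 17, 19, 23, 31, 47] : List ℕ).map fun q => (11, q)) ++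
      ((([3, 5, 7, 11, 13, 19, 23, 31, 47] : List ℕ).map fun q => (17, q)) ++
      ((([17, 19, 31, 47] : List ℕ).map fun q => (23, q)) ++
      ((([3, 47] : List ℕ).map fun q => (13, q)) ++
      (([47] : List ℕ).map fun q => (31, q)))))))))))
    (by decide) (by decide +kernel) ?_
  refine all_append (all_map fun q hq => Baby.nc_three h hq) <| all_append (all_map fun q hq => Baby.nc_seven h hq) <|
    all_append (all_map ?_) <| all_append (all_map ?_) <| all_append (all_map ?_) <|
    all_append (all_map ?_) <| all_append (all_map ?_) <| all_append (all_map' fun q hq => Baby.nc_23 h3 h hq) <|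
    all_append (all_map ?_) (all_map ?_)
  · intro q hq
    simp only [List.mem_cons, List.not_mem_nil, or_false] at hq
    rcases hq with rfl | rfl
    · exact Baby.nc_seven' h (a := 13) (by norm_num) (by norm_num) (by norm_num) (by norm_num)
    · exact Baby.nc_seven' h (a := 6) (by norm_num) (by norm_num) (by norm_num) (by norm_num)
  · intro q hq
    simp only [List.mem_cons, List.not_mem_nil, or_false] at hq
    rcases hq with rfl | rfl | rfl | rfl | rfl | rfl | rfl
    · exact Baby.nc_five h (a := 13) (by norm_num) (by norm_num) (by norm_num) (by norm_num)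
    · exact Baby.nc_five h (a := 2) (by norm_num) (by norm_num) (by norm_num) (by norm_num)
    all_goals exact Baby.nc_five h (a := 1) (by norm_num) (by norm_num) (by norm_num) (by norm_num)
  · intro q hq
    obtain rfl := List.mem_singleton.1 hq
    exact Baby.nc_5_19 h
  · intro q hq
    simp only [List.mem_cons, List.not_mem_nil, or_false] at hq
    rcases hq with rfl | rfl | rfl | rfl | rfl | rfl | rfl | rfl | rfl
    · exact Baby.nc_eleven TB hS h (a := 13) (by norm_num) (by norm_num) (by norm_num) (by norm_num)
    · exact Baby.nc_eleven TB hS h (a := 6) (by norm_num) (by norm_num) (by norm_num) (by norm_num)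
    all_goals exact Baby.nc_eleven TB hS h (a := 1) (by norm_num) (by norm_num) (by norm_num) (by norm_num)
  · intro q hq
    simp only [List.mem_cons, List.not_mem_nil, or_false] at hq
    rcases hq with rfl | rfl | rfl | rfl | rfl | rfl | rfl | rfl | rfl
    · exact Baby.nc_seventeen h3 h (a := 13) (by norm_num) (by norm_num) (by norm_num) (by norm_num)
    · exact Baby.nc_seventeen h3 h (a := 6) (by norm_num) (by norm_num) (by norm_num) (by norm_num)
    · exact Baby.nc_seventeen h3 h (a := 2) (by norm_num) (by norm_num) (by norm_num) (by norm_num)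
    all_goals exact Baby.nc_seventeen h3 h (a := 1) (by norm_num) (by norm_num) (by norm_num) (by norm_num)
  · intro q hq
    simp only [List.mem_cons, List.not_mem_nil, or_false] at hq
    rcases hq with rfl | rfl
    · exact Baby.nc_thirteen h
    · exact nc_of_not_adj (by norm_num) (by norm_num) (by norm_num) (by rw [hN]; norm_num) (by rw [hN]; norm_num)
        (Baby.not_adj_13_47 h3 TB hS h)
  · intro q hq
    obtain rfl := List.mem_singleton.1 hq
    refine nc_of_not_adj (by norm_num) (by norm_num) (by norm_num) (by rw [hN]; norm_num) (by rw [hN]; norm_num) ?_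
    intro ha
    obtain ⟨e⟩ := h
    exact Cfsg.Agent.H149.Sp.not_adj_b (Baby.adj_congr e ha)

end Cfsg.Agent.H180.TH
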