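import Cfsg.Agent.H180.TriH.RowsA
import Cfsg.Agent.H759.NH.SuzTits
import Cfsg.Agent.H759.Pair.Suz
import Cfsg.Agent.SporRec.SuzNo143
import Cfsg.Agent.H547.SelfCent.Conway
import Cfsg.Agent.H978.NH.Co
import Cfsg.Agent.H265.NH.CoOne

/-!
# Transitivity rows (S4335): `Suz`, the Tits group, `Co₃`, `Co₂`, `Co₁` (helper180)
-/

set_option autoImplicit false
open Cfsg Subgroup

namespace Cfsg.Agent.H180.TH

open Cfsg.Agent.H630.NH Cfsg.Agent.H241.NH Cfsg.Agent.H393.Iso

universe u

theorem triH_suz {G : Type*} [Group G] [Finite G] (h : Spor.IsoSuz G) : TriH G := by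
  have hN := NotCT.Orders.suz h
  obtain ⟨e⟩ := h
  have hcard : Nat.card Cfsg.Spor.Suz = 448345497600 := by rw [← Nat.card_congr e.toEquiv, hN]
  have hf : Finite Cfsg.Spor.Suz := Nat.finite_of_card_ne_zero (by rw [hcard]; norm_num)
  refine triH_of (N := 448345497600) (k := 13) hN [(3, 7), (5, 2), (7, 1), (11, 1), (13, 1)]
    [(3, 5), (3, 7), (3, 11), (3, 13), (11, 7), (13, 11)] ?_ ?_ ?_
  · decide
  · decide
  · intro a ha
    simp only [List.mem_cons, List.not_mem_nil, or_false] at ha
    rcases ha with rfl | rfl | rfl | rfl | rfl | rfl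
    · exact (H759.NH.nc_suz_model (by simp)).congr e.symm
    · exact (H759.NH.nc_suz_model (by simp)).congr e.symm
    · exact (H759.NH.nc_suz_model (by simp)).congr e.symm
    · exact (H759.NH.nc_suz_model (by simp)).congr e.symm
    · refine (nc_of_noComm (X := Cfsg.Spor.Suz) (by norm_num) (by norm_num) (by norm_num) (by rw [hcard]; norm_num)
        (by rw [hcard]; norm_num) fun x y hx hy hc => ?_).congr e.symm
      exact H759.Pair.Suz.nc_7_11 hx hy hc
    · refine (nc_of_noComm (X := Cfsg.Spor.Suz) (by norm_num) (by norm_num) (by norm_num) (by rw [hcard]; norm_num)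
        (by rw [hcard]; norm_num) fun x y hx hy hc => ?_).congr e.symm
      exact Cfsg.Agent.SporRec.SuzNo143.no143 x y hx hy hc

theorem triH_tits {G : Type*} [Group G] [Finite G] [IsSimpleGroup G] (h : Lie.IsoTits G) : TriH G := by
  have hN := NotCT.Orders.tits h
  have hO := CpAutTits.Row.out h
  refine triH_of (N := 17971200) (k := 11) hN [(3, 3), (5, 2), (13, 1)] [(5, 3), (13, 3)] ?_ ?_ ?_
  · decide
  · decide
  · intro a ha
    simp only [List.mem_cons, List.not_mem_nil, or_false] at ha
    rcases ha with rfl | rfl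
    · have : Fact (Nat.Prime 5) := ⟨by norm_num⟩
      obtain ⟨y, hy⟩ := exists_prime_orderOf_dvd_card' (G := G) 5 (by rw [hN]; norm_num)
      exact (nc_of_dvd (a := 1) (by norm_num) (by norm_num) hy (by rw [hN]; norm_num)
        (dvd_of_eq (hO.cent y hy)) (by norm_num))
    · exact nc_of_self (by norm_num) (by norm_num) (by norm_num) (by rw [hN]; norm_num) (by rw [hN]; norm_num)
        fun x hx => H547.SelfCent.tits h inferInstance (na_tits h) hx

section Co

open Cfsg.Spor Cfsg.Agent.PreUniqCo.LatCo Cfsg.Agent.PreUniqCo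

theorem triH_co3 {G : Type*} [Group G] [Finite G] (h : Spor.IsoCo3 G) : TriH G := by
  have hN := NotCT.Orders.co3 h
  have h23 := na_co3 h
  have hc := fun x hx => H547.SelfCent.Conway.co3 (x := x) h h23 hx
  have hrk : ¬ PRankLE 3 2 G := Omega.Quasithin.Row.McL.row_co3 G h
  obtain ⟨e⟩ := h
  let ψ : Co3 →* Co0 := Subgroup.inclusion (inf_le_left : Co3 ≤ Co0)
  have hψ : Function.Injective ψ := Subgroup.inclusion_injective _
  let φ : G →* Co0 := ψ.comp e.toMonoidHom
  have hφ : Function.Injective φ := hψ.comp e.injective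
  have hfix : ∀ g, φ g • leechV = leechV := fun g => (e g).2.2
  refine triH_of (N := 495766656000) (k := 10) hN [(3, 7), (5, 3), (7, 1), (11, 1), (23, 1)]
    [(3, 5), (3, 7), (3, 11), (3, 23), (5, 7), (5, 11), (5, 23), (23, 7)] ?_ ?_ ?_
  · decide
  · decide
  · intro a ha
    simp only [List.mem_cons, List.not_mem_nil, or_false] at ha
    rcases ha with rfl | rfl | rfl | rfl | rfl | rfl | rfl | rfl
    · exact H978.NH.nc_three hφ Rows.leechV_ne hfix hrk (by norm_num) (by norm_num) (by rw [hN]; norm_num)
    · exact H978.NH.nc_three hφ Rows.leechV_ne hfix hrk (by norm_num) (by norm_num) (by rw [hN]; norm_num)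
    · exact H978.NH.nc_three hφ Rows.leechV_ne hfix hrk (by norm_num) (by norm_num) (by rw [hN]; norm_num)
    · exact H978.NH.nc_three hφ Rows.leechV_ne hfix hrk (by norm_num) (by norm_num) (by rw [hN]; norm_num)
    · exact H978.NH.nc_five hφ Rows.leechV_ne hfix (by rw [hN]; norm_num) (by norm_num) (by norm_num)
        (by rw [hN]; norm_num)
    · exact H978.NH.nc_five hφ Rows.leechV_ne hfix (by rw [hN]; norm_num) (by norm_num) (by norm_num)
        (by rw [hN]; norm_num)
    · exact H978.NH.nc_five hφ Rows.leechV_ne hfix (by rw [hN]; norm_num) (by norm_num) (by norm_num)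
        (by rw [hN]; norm_num)
    · exact nc_of_self (by norm_num) (by norm_num) (by norm_num) (by rw [hN]; norm_num) (by rw [hN]; norm_num) hc

theorem triH_co2 {G : Type*} [Group G] [Finite G] (h : Spor.IsoCo2 G) : TriH G := by
  have hN := NotCT.Orders.co2 h
  have h23 := na_co2 h
  have hc := fun x hx => H547.SelfCent.Conway.co2 (x := x) h h23 hx
  have hrk : ¬ PRankLE 3 2 G := Omega.Quasithin.Row.McL.row_co2 G h
  obtain ⟨e⟩ := h
  let ψ : Co2 →* Co0 := Subgroup.inclusion (inf_le_left : Co2 ≤ Co0)
  have hψ : Function.Injective ψ := Subgroup.inclusion_injective _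
  let φ : G →* Co0 := ψ.comp e.toMonoidHom
  have hφ : Function.Injective φ := hψ.comp e.injective
  have hfix : ∀ g, φ g • leechU = leechU := fun g => (e g).2.2
  refine triH_of (N := 42305421312000) (k := 18) hN [(3, 6), (5, 3), (7, 1), (11, 1), (23, 1)]
    [(3, 5), (3, 7), (3, 11), (3, 23), (5, 7), (5, 11), (5, 23), (23, 7)] ?_ ?_ ?_
  · decide
  · decide
  · intro a ha
    simp only [List.mem_cons, List.not_mem_nil, or_false] at ha
    rcases ha with rfl | rfl | rfl | rfl | rfl | rfl | rfl | rfl
    · exact H978.NH.nc_three hφ Rows.leechU_ne hfix hrk (by norm_num) (by norm_num) (by rw [hN]; norm_num)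
    · exact H978.NH.nc_three hφ Rows.leechU_ne hfix hrk (by norm_num) (by norm_num) (by rw [hN]; norm_num)
    · exact H978.NH.nc_three hφ Rows.leechU_ne hfix hrk (by norm_num) (by norm_num) (by rw [hN]; norm_num)
    · exact H978.NH.nc_three hφ Rows.leechU_ne hfix hrk (by norm_num) (by norm_num) (by rw [hN]; norm_num)
    · exact H978.NH.nc_five hφ Rows.leechU_ne hfix (by rw [hN]; norm_num) (by norm_num) (by norm_num)
        (by rw [hN]; norm_num)
    · exact H978.NH.nc_five hφ Rows.leechU_ne hfix (by rw [hN]; norm_num) (by norm_num) (by norm_num)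
        (by rw [hN]; norm_num)
    · exact H978.NH.nc_five hφ Rows.leechU_ne hfix (by rw [hN]; norm_num) (by norm_num) (by norm_num)
        (by rw [hN]; norm_num)
    · exact nc_of_self (by norm_num) (by norm_num) (by norm_num) (by rw [hN]; norm_num) (by rw [hN]; norm_num) hc

theorem triH_co1 {G : Type*} [Group G] [Finite G] (h : Spor.IsoCo1 G) : TriH G := by
  have hN := NotCT.Orders.co1 h
  have hc := fun x hx => H547.SelfCent.Conway.co1 (x := x) h (na_co1 h) hx
  obtain ⟨e⟩ := h
  refine triH_of (N := 4157776806543360000) (k := 21) hN [(3, 9), (5, 4), (7, 2), (11, 1), (13, 1), (23, 1)]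
    [(3, 5), (3, 7), (3, 11), (3, 13), (3, 23), (5, 7), (5, 11), (5, 13), (5, 23), (13, 7), (23, 7), (23, 13)]
    ?_ ?_ ?_
  · decide
  · decide
  · intro a ha
    simp only [List.mem_cons, List.not_mem_nil, or_false] at ha
    rcases ha with rfl | rfl | rfl | rfl | rfl | rfl | rfl | rfl | rfl | rfl | rfl | rfl
    · exact (H265.NH.CoOne.nc_three (by decide)).congr e.symm
    · exact (H265.NH.CoOne.nc_three (by decide)).congr e.symm
    · exact (H265.NH.CoOne.nc_three (by decide)).congr e.symm
    · exact (H265.NH.CoOne.nc_three (by decide)).congr e.symm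
    · exact (H265.NH.CoOne.nc_three (by decide)).congr e.symm
    · exact (H265.NH.CoOne.nc_five (by decide)).congr e.symm
    · exact (H265.NH.CoOne.nc_five (by decide)).congr e.symm
    · exact (H265.NH.CoOne.nc_five (by decide)).congr e.symm
    · exact (H265.NH.CoOne.nc_five (by decide)).congr e.symm
    · exact H265.NH.CoOne.nc_thirteen.congr e.symm
    · exact nc_of_self (by norm_num) (by norm_num) (by norm_num) (by rw [hN]; norm_num) (by rw [hN]; norm_num) hc
    · exact nc_of_self (by norm_num) (by norm_num) (by norm_num) (by rw [hN]; norm_num) (by rw [hN]; norm_num) hc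

end Co

end Cfsg.Agent.H180.TH
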