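import Cfsg.Agent.H180.TriH.RowsA
import Cfsg.Agent.H180.MElM11
import Cfsg.Agent.H433.NHMat

/-!
# Transitivity rows (S4335): the Mathieu groups (helper180)
-/

set_option autoImplicit false
open Cfsg Subgroup

namespace Cfsg.Agent.H180.TH

open Cfsg.Agent.H630.NH Cfsg.Agent.H241.NH Cfsg.Agent.H393.Iso Cfsg.Agent.H180.MEl

/-- the numbers of fixed points of the elements of odd prime order of `M₂₄` -/
def fxs (p : ℕ) : List ℕ :=
  if p = 3 then [6, 0] else if p = 5 then [4] else if p = 7 then [3] else if p = 11 then [2] else [1]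

theorem fx_mem {p : ℕ} (hp : p ∈ [3, 5, 7, 11, 23]) {x : Equiv.Perm GolayPt} (hx : x ∈ M24) (ox : orderOf x = p) :
    Cfsg.Agent.H866.InvolType.fx x ∈ fxs p := by
  simp only [List.mem_cons, List.not_mem_nil, or_false] at hp
  rcases hp with rfl | rfl | rfl | rfl | rfl
  · rcases fx3 hx ox with h | h <;> rw [h] <;> decide
  · rw [fx5 hx ox]; decide
  · rw [fx7 hx ox]; decide
  · rw [fx11 hx ox]; decide
  · rw [fx23 hx ox]; decide

/-- the check for two primes -/
def chkF (p q : ℕ) : Bool :=
  (fxs p).all fun f => (fxs q).all fun g => (List.range (f + 1)).all fun c => (g < c) || (g % p != c % p) || (f % q != c % q)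

theorem nocomm24 {p q : ℕ} (hp : p ∈ [3, 5, 7, 11, 23]) (hq : q ∈ [3, 5, 7, 11, 23]) (h : chkF p q = true)
    {x y : Equiv.Perm GolayPt} (hx : x ∈ M24) (hy : y ∈ M24) (ox : orderOf x = p) (oy : orderOf y = q) :
    x * y ≠ y * x := by
  intro hc
  have hpF : Fact p.Prime := ⟨by
    simp only [List.mem_cons, List.not_mem_nil, or_false] at hp
    rcases hp with rfl | rfl | rfl | rfl | rfl <;> norm_num⟩
  have hqF : Fact q.Prime := ⟨by
    simp only [List.mem_cons, List.not_mem_nil, or_false] at hq
    rcases hq with rfl | rfl | rfl | rfl | rfl <;> norm_num⟩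
  have h1 := card_Fx_comm (p := p) (x := x) (y := y) (by rw [← ox, pow_orderOf_eq_one]) hc
  have h2 := card_Fx_comm (p := q) (x := y) (y := x) (by rw [← oy, pow_orderOf_eq_one]) (show Commute x y from hc).symm
  rw [Finset.inter_comm] at h2
  have h3 : (Fx x ∩ Fx y).card ≤ Cfsg.Agent.H866.InvolType.fx x := Finset.card_le_card Finset.inter_subset_left
  have h4 : (Fx x ∩ Fx y).card ≤ Cfsg.Agent.H866.InvolType.fx y := Finset.card_le_card Finset.inter_subset_right
  have h5 := List.all_eq_true.1 (List.all_eq_true.1 (List.all_eq_true.1 h _ (fx_mem hp hx ox)) _ (fx_mem hq hy oy))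
    (Fx x ∩ Fx y).card (List.mem_range.2 (by omega))
  simp only [Bool.or_eq_true, decide_eq_true_eq, bne_iff_ne] at h5
  rcases h5 with (h5 | h5) | h5
  · omega
  · exact h5 h1
  · exact h5 h2

theorem nc24 {H : Subgroup (Equiv.Perm GolayPt)} (hH : H ≤ M24) {p q : ℕ} (hp : p ∈ [3, 5, 7, 11, 23])
    (hq : q ∈ [3, 5, 7, 11, 23]) (hpq : p ≠ q) (hpd : p ∣ Nat.card H) (hqd : q ∣ Nat.card H) (h : chkF p q = true) :
    NC p q H := by
  have hfin : Finite H := inferInstance
  refine nc_of_noComm (by
    simp only [List.mem_cons, List.not_mem_nil, or_false] at hp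
    rcases hp with rfl | rfl | rfl | rfl | rfl <;> norm_num) (by
    simp only [List.mem_cons, List.not_mem_nil, or_false] at hq
    rcases hq with rfl | rfl | rfl | rfl | rfl <;> norm_num) hpq hpd hqd fun x y hx hy hc => ?_
  exact nocomm24 hp hq h (hH x.2) (hH y.2) (by rw [← hx]; exact Subgroup.orderOf_coe x)
    (by rw [← hy]; exact Subgroup.orderOf_coe y) (congrArg Subtype.val hc)

theorem triH_m11 {G : Type*} [Group G] [Finite G] (h : Spor.IsoM11 G) : TriH G := by
  have hG := Cfsg.Agent.Cit.Eleven.isM11 h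
  refine triH_of (N := 7920) (k := 4) hG.2 [(3, 2), (5, 1), (11, 1)] [(11, 3)] ?_ ?_ ?_
  · decide
  · decide
  · intro a ha
    obtain rfl := List.mem_singleton.1 ha
    exact nc_of_self (by norm_num) (by norm_num) (by norm_num) (by rw [hG.2]; norm_num) (by rw [hG.2]; norm_num)
      fun x hx => Cfsg.Agent.SporadicA.M11Sylow.card_centralizer_eleven hG hx

theorem triH_m12 {G : Type*} [Group G] [Finite G] [IsSimpleGroup G] (h : Spor.IsoM12 G) : TriH G := by
  have hN := NotCT.Orders.m12 h
  -- a subgroup of index 12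
  have hidx : ∃ H : Subgroup G, H.index = 12 := by
    obtain ⟨e⟩ := h
    have h11 : Nat.card (Spor.M11.subgroupOf Spor.M12) = 7920 := by
      rw [Nat.card_congr (Subgroup.subgroupOfEquivOfLe (show Spor.M11 ≤ Spor.M12 from inf_le_left)).toEquiv]
      exact NotCT.Orders.m11 ⟨MulEquiv.refl _⟩
    have h12 : Nat.card Spor.M12 = 95040 := NotCT.Orders.m12 ⟨MulEquiv.refl _⟩
    have h1 := (Spor.M11.subgroupOf Spor.M12).card_mul_index
    rw [h11, h12] at h1
    refine ⟨(Spor.M11.subgroupOf Spor.M12).comap e.toMonoidHom, ?_⟩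
    rw [Subgroup.index_comap_of_surjective _ e.surjective]
    omega
  obtain ⟨H, hH⟩ := hidx
  have h35 : NC 3 5 G := H433.NHMat.nc_of_idx (by norm_num) (by norm_num) (by norm_num) H hH (by norm_num) (by norm_num)
    (by rw [hN]; norm_num) (by decide)
  refine triH_of (N := 95040) (k := 6) hN [(3, 3), (5, 1), (11, 1)] [(3, 5)] ?_ ?_ ?_
  · decide
  · decide
  · intro a ha
    obtain rfl := List.mem_singleton.1 ha
    exact h35

theorem triH_m22 {G : Type*} [Group G] [Finite G] (h : Spor.IsoM22 G) : TriH G := by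
  have hN := NotCT.Orders.m22 h
  obtain ⟨e⟩ := h
  have hN' : Nat.card Spor.M22 = 443520 := by rw [← Nat.card_congr e.toEquiv, hN]
  refine triH_of (N := 443520) (k := 7) hN [(3, 2), (5, 1), (7, 1), (11, 1)] [(5, 7), (11, 3), (11, 7)] ?_ ?_ ?_
  · decide
  · decide
  · intro a ha
    simp only [List.mem_cons, List.not_mem_nil, or_false] at ha
    rcases ha with rfl | rfl | rfl <;>
      exact (nc24 H433.NHMat.le_24 (by decide) (by decide) (by norm_num) (by rw [hN']; norm_num)
        (by rw [hN']; norm_num) (by decide)).congr e.symm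

theorem triH_m23 {G : Type*} [Group G] [Finite G] (h : Spor.IsoM23 G) : TriH G := by
  have hN := NotCT.Orders.m23 h
  obtain ⟨e⟩ := h
  have hN' : Nat.card Spor.M23 = 10200960 := by rw [← Nat.card_congr e.toEquiv, hN]
  refine triH_of (N := 10200960) (k := 7) hN [(3, 2), (5, 1), (7, 1), (11, 1), (23, 1)]
    [(5, 7), (11, 3), (11, 5), (11, 7), (23, 3), (23, 5)] ?_ ?_ ?_
  · decide
  · decide
  · intro a ha
    simp only [List.mem_cons, List.not_mem_nil, or_false] at ha
    rcases ha with rfl | rfl | rfl | rfl | rfl | rfl <;>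
      exact (nc24 (H := Spor.M23) inf_le_left (by decide) (by decide) (by norm_num) (by rw [hN']; norm_num)
        (by rw [hN']; norm_num) (by decide)).congr e.symm

theorem triH_m24 {G : Type*} [Group G] [Finite G] (h : Spor.IsoM24 G) : TriH G := by
  have hN := NotCT.Orders.m24 h
  obtain ⟨e⟩ := h
  have hN' : Nat.card M24 = 244823040 := by rw [← Nat.card_congr e.toEquiv, hN]
  refine triH_of (N := 244823040) (k := 10) hN [(3, 3), (5, 1), (7, 1), (11, 1), (23, 1)]
    [(5, 7), (11, 3), (11, 5), (11, 7), (23, 3), (23, 5)] ?_ ?_ ?_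
  · decide
  · decide
  · intro a ha
    simp only [List.mem_cons, List.not_mem_nil, or_false] at ha
    rcases ha with rfl | rfl | rfl | rfl | rfl | rfl <;>
      exact (nc24 (H := M24) le_rfl (by decide) (by decide) (by norm_num) (by rw [hN']; norm_num)
        (by rw [hN']; norm_num) (by decide)).congr e.symm

end Cfsg.Agent.H180.TH
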