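import Cfsg.Agent.H180.TriH.RowsA
import Cfsg.Agent.H995.NHFiTwo
import Cfsg.Agent.H995.NHFiThree
import Cfsg.Agent.H353.NHFiTF

/-!
# Transitivity rows (S4335): `Fi₂₂`, `Fi₂₃`, `Fi₂₄'` (helper180)
-/

set_option autoImplicit false
set_option maxRecDepth 100000
open Cfsg Subgroup

namespace Cfsg.Agent.H180.TH

open Cfsg.Agent.H630.NH Cfsg.Agent.H241.NH Cfsg.Agent.H393.Iso

theorem triH_fi22 {G : Type*} [Group G] [Finite G] (h : Spor.IsoFi22 G) : TriH G := by
  have hN := NotCT.Orders.fi22 h
  obtain ⟨e⟩ := h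
  obtain ⟨-, x, hx, hc⟩ := H995.NH.three_fi22 e
  have n3 : ∀ q a : ℕ, q.Prime → 3 ≠ q → 64561751654400 % q ^ a = 0 → 19595520 % q ^ a ≠ 0 → NC 3 q G := by
    intro q a hq h3 h1 h2
    refine nc_of_card (a := a) hq h3 ⟨1, by rw [hx, pow_one]⟩ (by rw [hN]; exact Nat.dvd_of_mod_eq_zero h1) ?_
    rw [hc]
    exact fun h => h2 (Nat.mod_eq_zero_of_dvd h)
  have n11 : ∀ q a : ℕ, q.Prime → 11 ≠ q → 64561751654400 % q ^ a = 0 → 22 % q ^ a ≠ 0 → NC 11 q G := by
    intro q a hq h3 h1 h2
    have hfin : Fact (Nat.Prime 11) := ⟨by norm_num⟩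
    obtain ⟨y, hy⟩ := exists_prime_orderOf_dvd_card' (G := G) 11 (by rw [hN]; norm_num)
    refine nc_of_card (a := a) hq h3 ⟨1, by rw [hy, pow_one]⟩ (by rw [hN]; exact Nat.dvd_of_mod_eq_zero h1) ?_
    rw [H713.Spor.Fi22.cent_11 e hy]
    exact fun h => h2 (Nat.mod_eq_zero_of_dvd h)
  refine triH_of (N := 64561751654400) (k := 17) hN [(3, 9), (5, 2), (7, 1), (11, 1), (13, 1)]
    [(3, 5), (3, 7), (3, 11), (3, 13), (11, 5), (11, 7), (11, 13)] ?_ ?_ ?_
  · decide
  · decide
  · intro a ha
    simp only [List.mem_cons, List.not_mem_nil, or_false] at ha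
    rcases ha with rfl | rfl | rfl | rfl | rfl | rfl | rfl
    · exact n3 5 2 (by norm_num) (by norm_num) (by norm_num) (by norm_num)
    · exact (H995.NH.fr37_fi22.congr e.symm).nc (by norm_num) (by norm_num)
    · exact n3 11 1 (by norm_num) (by norm_num) (by norm_num) (by norm_num)
    · exact n3 13 1 (by norm_num) (by norm_num) (by norm_num) (by norm_num)
    · exact n11 5 2 (by norm_num) (by norm_num) (by norm_num) (by norm_num)
    · exact n11 7 1 (by norm_num) (by norm_num) (by norm_num) (by norm_num)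
    · exact n11 13 1 (by norm_num) (by norm_num) (by norm_num) (by norm_num)

section

open Cfsg.Agent.LThreeFi23 Cfsg.Agent.H163.PG.FiTT
open Cfsg.Spor (Fi23)

theorem nc_fi23_11 {q : ℕ} (hq : q.Prime) (h3 : 3 ≤ q) (hq' : ¬ q ∣ 22) (hd : q ∣ 4089470473293004800) : NC 11 q Fi23 := by
  obtain ⟨x, hx⟩ := H995.NH.exists_ord (q := 11) (by norm_num) (by norm_num)
  have h11 : 11 ≠ q := by
    rintro rfl
    exact hq' (by norm_num)
  exact nc_of_elem hq h11 (by rw [card_G]; exact hd) hx fun y hy hxy => eleven hx (s := q) hq h3 hq' hy hxy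

theorem triH_fi23 {G : Type*} [Group G] [Finite G] (h : Spor.IsoFi23 G) : TriH G := by
  have hN := NotCT.Orders.fi23 h
  obtain ⟨e⟩ := h
  refine triH_of (N := 4089470473293004800) (k := 18) hN [(3, 13), (5, 2), (7, 1), (11, 1), (13, 1), (17, 1), (23, 1)]
    [(3, 5), (3, 7), (3, 11), (3, 13), (3, 17), (3, 23), (11, 5), (11, 7), (11, 13), (11, 17), (11, 23)] ?_ ?_ ?_
  · decide
  · decide
  · intro a ha
    simp only [List.mem_cons, List.not_mem_nil, or_false] at ha
    rcases ha with rfl | rfl | rfl | rfl | rfl | rfl | rfl | rfl | rfl | rfl | rfl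
    · exact (H995.NH.nc_fi23_three (by simp)).congr e.symm
    · exact (H995.NH.nc_fi23_three (by simp)).congr e.symm
    · exact (H995.NH.nc_fi23_three (by simp)).congr e.symm
    · exact (H995.NH.nc_fi23_three (by simp)).congr e.symm
    · exact (H995.NH.nc_fi23_three (by simp)).congr e.symm
    · exact (H995.NH.nc_fi23_three (by simp)).congr e.symm
    · exact (nc_fi23_11 (by norm_num) (by norm_num) (by norm_num) (by norm_num)).congr e.symm
    · exact (nc_fi23_11 (by norm_num) (by norm_num) (by norm_num) (by norm_num)).congr e.symm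
    · exact (nc_fi23_11 (by norm_num) (by norm_num) (by norm_num) (by norm_num)).congr e.symm
    · exact (nc_fi23_11 (by norm_num) (by norm_num) (by norm_num) (by norm_num)).congr e.symm
    · exact (nc_fi23_11 (by norm_num) (by norm_num) (by norm_num) (by norm_num)).congr e.symm

end

section

open Cfsg.Agent.H353.NHFiTF

theorem nc_fi24_11 {p : ℕ} (hp : p.Prime) (hd : p ∣ 1255205709190661721292800) (h : ¬ p ∣ 2640) :
    NC p 11 Spor.Fi24' := by
  have h11 : p ≠ 11 := by
    rintro rfl
    exact h (by norm_num)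
  exact nc_norm hp h11 (by rw [card_prime]; exact hd) (by decide) H843.D11.order H843.D11.main h

theorem triH_fi24_model : TriH Spor.Fi24' := by
  have := finite_prime
  refine triH_of (N := 1255205709190661721292800) (k := 21) card_prime
    [(3, 16), (5, 2), (7, 3), (11, 1), (13, 1), (17, 1), (23, 1), (29, 1)]
    [(3, 5), (3, 7), (3, 11), (3, 13), (3, 17), (3, 23), (3, 29), (7, 5), (7, 11), (7, 13), (7, 17), (7, 23), (7, 29),
      (5, 11), (13, 11), (17, 11), (23, 11), (29, 11)] ?_ ?_ ?_
  · decide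
  · decide
  · intro a ha
    simp only [List.mem_cons, List.not_mem_nil, or_false] at ha
    rcases ha with rfl | rfl | rfl | rfl | rfl | rfl | rfl | rfl | rfl | rfl | rfl | rfl | rfl | rfl | rfl | rfl | rfl |
      rfl
    · exact nc_three (by norm_num) (by norm_num) (by rw [card_prime]; norm_num)
    · exact nc_three (by norm_num) (by norm_num) (by rw [card_prime]; norm_num)
    · exact nc_three (by norm_num) (by norm_num) (by rw [card_prime]; norm_num)
    · exact nc_three (by norm_num) (by norm_num) (by rw [card_prime]; norm_num)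
    · exact nc_three (by norm_num) (by norm_num) (by rw [card_prime]; norm_num)
    · exact nc_three (by norm_num) (by norm_num) (by rw [card_prime]; norm_num)
    · exact nc_three (by norm_num) (by norm_num) (by rw [card_prime]; norm_num)
    · exact nc_seven_five
    · exact nc_seven_eleven
    · exact nc_seven_thirteen
    · exact nc_seven_seventeen
    · exact nc_seven_twentythree
    · exact nc_seven_twentynine
    · exact nc_five_eleven
    · exact nc_fi24_11 (by norm_num) (by norm_num) (by norm_num)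
    · exact nc_fi24_11 (by norm_num) (by norm_num) (by norm_num)
    · exact nc_fi24_11 (by norm_num) (by norm_num) (by norm_num)
    · exact nc_fi24_11 (by norm_num) (by norm_num) (by norm_num)

theorem triH_fi24 {G : Type*} [Group G] (h : Spor.IsoFi24' G) : TriH G := by
  obtain ⟨e⟩ := h
  exact triH_fi24_model.congr e.symm

end

end Cfsg.Agent.H180.TH
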