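import Cfsg.Agent.H180.TriH.RowsA
import Cfsg.Agent.H443.NHHN.Row
import Cfsg.Agent.H865.NH.Th
import Cfsg.Agent.H865.NH.JFour
import Cfsg.Agent.H433.NHOn

/-!
# Transitivity rows (S4335): `HN`, `Th`, `J₄`, `O'N` (helper180)
-/

set_option autoImplicit false
set_option maxRecDepth 100000
open Cfsg Subgroup

namespace Cfsg.Agent.H180.TH

open Cfsg.Agent.H630.NH Cfsg.Agent.H241.NH Cfsg.Agent.H393.Iso

theorem triH_hn {G : Type*} [Group G] [Finite G] (h : Spor.IsoHN G) : TriH G := by
  have hN := NotCT.Orders.hn h
  obtain ⟨e⟩ := h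
  refine triH_of (N := 273030912000000) (k := 14) hN [(3, 6), (5, 6), (7, 1), (11, 1), (19, 1)]
    [(3, 5), (3, 7), (3, 11), (3, 19), (5, 7), (5, 11), (5, 19)] ?_ ?_ ?_
  · decide
  · decide
  · intro a ha
    simp only [List.mem_cons, List.not_mem_nil, or_false] at ha
    rcases ha with rfl | rfl | rfl | rfl | rfl | rfl | rfl <;>
      exact (H443.NHHN.nc_all _ (by decide) _ (by decide) (by decide)).congr e.symm

section Th

open Cfsg.Agent.H865.NH.Th

theorem triH_th_model : TriH Spor.Th := by
  have := fin'
  refine triH_of (N := 90745943887872000) (k := 15) card' [(3, 10), (5, 3), (7, 2), (13, 1), (19, 1), (31, 1)]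
    [(5, 3), (3, 13), (3, 19), (3, 31), (5, 13), (5, 19), (5, 31), (7, 3), (7, 5)] ?_ ?_ ?_
  · decide
  · decide
  · intro a ha
    simp only [List.mem_cons, List.not_mem_nil, or_false] at ha
    rcases ha with rfl | rfl | rfl | rfl | rfl | rfl | rfl | rfl | rfl
    · exact five_three
    · exact three_big (by norm_num) (by norm_num) (by norm_num) (by norm_num) (by norm_num)
    · exact three_big (by norm_num) (by norm_num) (by norm_num) (by norm_num) (by norm_num)
    · exact three_big (by norm_num) (by norm_num) (by norm_num) (by norm_num) (by norm_num)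
    · exact five_big (by norm_num) (by norm_num) (by norm_num) (by norm_num) (by norm_num)
    · exact five_big (by norm_num) (by norm_num) (by norm_num) (by norm_num) (by norm_num)
    · exact five_big (by norm_num) (by norm_num) (by norm_num) (by norm_num) (by norm_num)
    · exact seven (a := 3) (by norm_num) (by norm_num) (by norm_num) (by norm_num) (by norm_num)
    · exact seven (a := 2) (by norm_num) (by norm_num) (by norm_num) (by norm_num) (by norm_num)

theorem triH_th {G : Type*} [Group G] (h : Spor.IsoTh G) : TriH G := by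
  obtain ⟨e⟩ := h
  exact triH_th_model.congr e.symm

end Th

section J4

open Cfsg.Agent.H865.NH.JFour

theorem nc_big {p q : ℕ} (hq : q.Prime) (hpq : p ≠ q) (hp : p.Prime) (hd : q ∣ 86775571046077562880)
    (h : ∃ x : Spor.J4, orderOf x = p ∧ Nat.card (centralizer ({x} : Set Spor.J4)) = p) : NC p q Spor.J4 := by
  have := fin
  obtain ⟨x, hx, hc⟩ := h
  refine nc_of_card (a := 1) hq hpq ⟨1, by rw [hx, pow_one]⟩ (by rw [pow_one, card]; exact hd) ?_
  rw [hc, pow_one]
  exact fun hd => hpq ((Nat.prime_dvd_prime_iff_eq hq hp).1 hd).symm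

theorem triH_j4_model : TriH Spor.J4 := by
  have := fin
  have h29 := big (p := 29) (by norm_num) (by norm_num) fun P hP => (Cfsg.Agent.H859.BigNum.data29' hP).1
  have h31 := big (p := 31) (by norm_num) (by norm_num) fun P hP => (Cfsg.Agent.H859.BigNum.data31 hP).1
  have h23 := big (p := 23) (by norm_num) (by norm_num) fun P hP => (Cfsg.Agent.H859.BigNum.data23 hP).1
  have h37 := big (p := 37) (by norm_num) (by norm_num) fun P hP => (Cfsg.Agent.H859.BigNum.data37 hP).1
  have h43 := big (p := 43) (by norm_num) (by norm_num) fun P hP => (Cfsg.Agent.H859.BigNum.data43 hP).1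
  have e : ∀ {p : ℕ}, (∃ x : Spor.J4, orderOf x = p ∧ Nat.card (centralizer ({x} : Set Spor.J4)) = p) →
      ∃ x : Spor.J4, orderOf x = p ∧ Nat.card (centralizer ({x} : Set Spor.J4)) ∣ p := fun ⟨x, h1, h2⟩ =>
    ⟨x, h1, h2 ▸ dvd_rfl⟩
  refine triH_of (N := 86775571046077562880) (k := 21) card
    [(3, 3), (5, 1), (7, 1), (11, 3), (23, 1), (29, 1), (31, 1), (37, 1), (43, 1)]
    [(3, 5), (3, 7), (11, 3), (3, 23), (3, 29), (3, 31), (3, 37), (3, 43),
      (11, 5), (11, 7), (11, 23), (11, 29), (11, 31), (11, 37), (11, 43),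
      (31, 5), (31, 7), (31, 23), (31, 29), (31, 37), (31, 43), (29, 5), (29, 7), (29, 23), (29, 37), (29, 43),
      (43, 5), (43, 7), (43, 23), (43, 37)] ?_ ?_ ?_
  · decide
  · decide
  · intro a ha
    simp only [List.mem_cons, List.not_mem_nil, or_false] at ha
    rcases ha with rfl | rfl | rfl | rfl | rfl | rfl | rfl | rfl | rfl | rfl | rfl | rfl | rfl | rfl | rfl | rfl | rfl |
      rfl | rfl | rfl | rfl | rfl | rfl | rfl | rfl | rfl | rfl | rfl | rfl | rfl
    · exact nc_three five_seven.1 (by norm_num) (by norm_num)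
    · exact nc_three five_seven.2 (by norm_num) (by norm_num)
    · exact (nc_eleven (q := 3) (a := 3) (by norm_num) (by norm_num) (by norm_num) (by norm_num))
    · exact nc_three (e h23) (by norm_num) (by norm_num)
    · exact nc_three (e h29) (by norm_num) (by norm_num)
    · exact nc_three (e h31) (by norm_num) (by norm_num)
    · exact nc_three (e h37) (by norm_num) (by norm_num)
    · exact nc_three (e h43) (by norm_num) (by norm_num)
    · exact nc_eleven (a := 1) (by norm_num) (by norm_num) (by norm_num) (by norm_num)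
    · exact nc_eleven (a := 1) (by norm_num) (by norm_num) (by norm_num) (by norm_num)
    · exact nc_eleven (a := 1) (by norm_num) (by norm_num) (by norm_num) (by norm_num)
    · exact nc_eleven (a := 1) (by norm_num) (by norm_num) (by norm_num) (by norm_num)
    · exact nc_eleven (a := 1) (by norm_num) (by norm_num) (by norm_num) (by norm_num)
    · exact nc_eleven (a := 1) (by norm_num) (by norm_num) (by norm_num) (by norm_num)
    · exact nc_eleven (a := 1) (by norm_num) (by norm_num) (by norm_num) (by norm_num)
    · exact nc_big (by norm_num) (by norm_num) (by norm_num) (by norm_num) h31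
    · exact nc_big (by norm_num) (by norm_num) (by norm_num) (by norm_num) h31
    · exact nc_big (by norm_num) (by norm_num) (by norm_num) (by norm_num) h31
    · exact nc_big (by norm_num) (by norm_num) (by norm_num) (by norm_num) h31
    · exact nc_big (by norm_num) (by norm_num) (by norm_num) (by norm_num) h31
    · exact nc_big (by norm_num) (by norm_num) (by norm_num) (by norm_num) h31
    · exact nc_big (by norm_num) (by norm_num) (by norm_num) (by norm_num) h29
    · exact nc_big (by norm_num) (by norm_num) (by norm_num) (by norm_num) h29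
    · exact nc_big (by norm_num) (by norm_num) (by norm_num) (by norm_num) h29
    · exact nc_big (by norm_num) (by norm_num) (by norm_num) (by norm_num) h29
    · exact nc_big (by norm_num) (by norm_num) (by norm_num) (by norm_num) h29
    · exact nc_big (by norm_num) (by norm_num) (by norm_num) (by norm_num) h43
    · exact nc_big (by norm_num) (by norm_num) (by norm_num) (by norm_num) h43
    · exact nc_big (by norm_num) (by norm_num) (by norm_num) (by norm_num) h43
    · exact nc_big (by norm_num) (by norm_num) (by norm_num) (by norm_num) h43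

theorem triH_j4 {G : Type*} [Group G] (h : Spor.IsoJ4 G) : TriH G := by
  obtain ⟨e⟩ := h
  exact triH_j4_model.congr e.symm

end J4

section ON

open Cfsg.Spor (ON)
open Cfsg.Agent.H433.NHOn Cfsg.Agent.H474.ONC

theorem nc_on_five {q a : ℕ} (hq : q.Prime) (h5 : 5 ≠ q) (hd : q ^ a ∣ 460815505920) (hn : ¬ q ^ a ∣ 180) : NC 5 q ON := by
  have := H545.PQ.ONan.finite
  have : Fact (Nat.Prime 5) := ⟨by norm_num⟩
  obtain ⟨y, hy⟩ := exists_prime_orderOf_dvd_card' (G := ON) 5 (by rw [H545.PQ.ONan.card]; norm_num)
  exact nc_of_card (a := a) hq h5 ⟨1, by rw [hy, pow_one]⟩ (by rw [H545.PQ.ONan.card]; exact hd)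
    (by rw [card_cent_five hy]; exact hn)

theorem nc_on_eleven {q : ℕ} (hq : q.Prime) (h5 : 11 ≠ q) (hd : q ∣ 460815505920) : NC 11 q ON := by
  have := H545.PQ.ONan.finite
  exact nc_of_self (by norm_num) hq h5 (by rw [H545.PQ.ONan.card]; norm_num) (by rw [H545.PQ.ONan.card]; exact hd)
    fun x hx => card_cent_eleven hx

theorem nc_on_nineteen {q : ℕ} (hq : q.Prime) (h5 : 19 ≠ q) (hd : q ∣ 460815505920) : NC 19 q ON := by
  have := H545.PQ.ONan.finite
  obtain ⟨y, hy, hc⟩ := exists_nineteen
  refine nc_of_card (a := 1) hq h5 ⟨1, by rw [hy, pow_one]⟩ (by rw [pow_one, H545.PQ.ONan.card]; exact hd) ?_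
  rw [hc, pow_one]
  exact fun hd => h5 ((Nat.prime_dvd_prime_iff_eq hq (by norm_num)).1 hd).symm

theorem triH_on_model : TriH ON := by
  have := H545.PQ.ONan.finite
  refine triH_of (N := 460815505920) (k := 9) H545.PQ.ONan.card [(3, 4), (5, 1), (7, 3), (11, 1), (19, 1), (31, 1)]
    [(7, 3), (7, 5), (7, 11), (7, 19), (7, 31), (5, 3), (5, 11), (5, 19), (5, 31), (11, 3), (11, 31), (11, 19), (19, 3),
      (19, 31)]
    ?_ ?_ ?_
  · decide
  · decide
  · intro a ha
    simp only [List.mem_cons, List.not_mem_nil, or_false] at ha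
    rcases ha with rfl | rfl | rfl | rfl | rfl | rfl | rfl | rfl | rfl | rfl | rfl | rfl | rfl | rfl
    · exact nc_7_3
    · exact nc_x7 (by norm_num) (by norm_num) (by norm_num) n7_5
    · exact nc_x7 (by norm_num) (by norm_num) (by norm_num) n7_11
    · exact nc_x7 (by norm_num) (by norm_num) (by norm_num) n7_19
    · exact nc_x7 (by norm_num) (by norm_num) (by norm_num) n7_31
    · exact nc_on_five (a := 4) (by norm_num) (by norm_num) (by norm_num) (by norm_num)
    · exact nc_on_five (a := 1) (by norm_num) (by norm_num) (by norm_num) (by norm_num)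
    · exact nc_on_five (a := 1) (by norm_num) (by norm_num) (by norm_num) (by norm_num)
    · exact nc_on_five (a := 1) (by norm_num) (by norm_num) (by norm_num) (by norm_num)
    · exact nc_on_eleven (by norm_num) (by norm_num) (by norm_num)
    · exact nc_on_eleven (by norm_num) (by norm_num) (by norm_num)
    · exact nc_on_eleven (by norm_num) (by norm_num) (by norm_num)
    · exact nc_on_nineteen (by norm_num) (by norm_num) (by norm_num)
    · exact nc_on_nineteen (by norm_num) (by norm_num) (by norm_num)

theorem triH_on {G : Type*} [Group G] (h : Spor.IsoON G) : TriH G := by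
  obtain ⟨e⟩ := h
  exact triH_on_model.congr e.symm

end ON

end Cfsg.Agent.H180.TH
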