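import Cfsg.Agent.H180.TriH.RowsA
import Cfsg.Agent.H180.TriH.RowsB
import Cfsg.Agent.H180.TriH.RowsC
import Cfsg.Agent.H180.TriH.RowsD
import Cfsg.Agent.H180.TriH.RowsE
import Cfsg.Agent.H180.TriH.RowsF
import Cfsg.Agent.H180.TriH.RowM
import Cfsg.Agent.H180.TriH.RowB

/-!
# Transitivity rows (S4335): the sporadic groups and the Tits group (helper180, task 2141)

* `triH_of_sporadic`, `triH_of_tits`.

`known0`, `known` : the classification in the universes `0` and `u`; `h3` : S3331; `tab0`, `tab` : `OrdDiv.table`.
-/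

set_option autoImplicit false

namespace Cfsg.Agent.H180.TH

open Cfsg Cfsg.Agent.H630.NH Cfsg.Agent.H241.NH

universe u

/-- **The sporadic groups** -/
theorem triH_of_sporadic (h3 : Three.{0}) (tab0 : Cfsg.Agent.OrdDiv.OrderTable.{0})
    (tab : Cfsg.Agent.OrdDiv.OrderTable.{u})
    (known0 : ∀ (X : Type) [Group X] [Finite X] [IsSimpleGroup X], IsKnownSimple' X)
    (known : ∀ (X : Type u) [Group X] [Finite X] [IsSimpleGroup X], IsKnownSimple' X)
    (X : Type u) [Group X] [Finite X] [IsSimpleGroup X] (h : IsSporadicGroup X) : TriH X := by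
  rcases h with h | h | h | h | h | h | h | h | h | h | h | h | h | h | h | h | h | h | h | h | h | h | h | h | h | h
  · exact triH_m11 h
  · exact triH_m12 h
  · exact triH_m22 h
  · exact triH_m23 h
  · exact triH_m24 h
  · exact triH_j1 h
  · exact triH_j2 h
  · exact triH_j3 h
  · exact triH_j4 h
  · exact triH_co1 h
  · exact triH_co2 h
  · exact triH_co3 h
  · exact triH_mcl h
  · exact triH_hs h
  · exact triH_suz h
  · exact triH_he h
  · exact triH_ru h
  · exact triH_on h
  · exact triH_ly tab known h
  · exact triH_fi22 h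
  · exact triH_fi23 h
  · exact triH_fi24 h
  · exact triH_hn h
  · exact triH_th h
  · exact triH_b h3 tab0 known0 h
  · exact triH_m h3 tab0 known0 h

/-- **The Tits group** -/
theorem triH_of_tits {X : Type u} [Group X] [Finite X] [IsSimpleGroup X] (h : Lie.IsoTits X) : TriH X := triH_tits h

end Cfsg.Agent.H180.TH
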