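import Cfsg.Agent.H180.TriH.RowsA
import Cfsg.Agent.H241.NHMonF
import Cfsg.Agent.H58.Cop.MSc
import Cfsg.Agent.H746.MEleven.Final
import Cfsg.Agent.H199.NSmMon
import Cfsg.Agent.Lib.NilpotentCoprime

/-!
# Non-adjacent primes in the Monster (helper180)

* `exists_inv_of_self` : `v` of order 3, `Self v y`, `q ^ n` and 4 divide `|C(y)|`, `q ≥ 11`: there is an involution `s` with
  `q ^ n ∣ |C(s)|`;
* `nc_23_13`, `nc_5_19`, `nc_17`, `nc_11`, `nc_59`, `nc_23`.
-/

set_option autoImplicit false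
set_option maxRecDepth 100000
open Subgroup

namespace Cfsg.Agent.H180.TH.Mon

open Cfsg Cfsg.Agent.H630.NH Cfsg.Agent.H241.NH Cfsg.Agent.H393.Iso Cfsg.Agent.H241.Mon
open Cfsg.Agent.LThreeMB (fr XX Zx mk exists_mk mk_eq_one mk_eq_mk self)
open Cfsg.Agent.Co2Type.Quad (Large)
open Cfsg.Agent.MonsterX Cfsg.Agent.MonsterX.InstData

universe u

/-- **Involutions commuting with Sylow subgroups of `C(y)`.** -/
theorem exists_inv_of_self (h3 : Three.{u}) {G : Type u} [Group G] [Finite G] {y v : G} {r : ℕ} (hr : r.Prime)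
    (hr3 : r ≠ 3) (hy : orderOf y = r) (hv : orderOf v = 3) (hvy : Self v y) {q n : ℕ} (hq : q.Prime) (hq11 : 11 ≤ q)
    (hqr : q ≠ r) (hn : 1 ≤ n) (hd : q ^ n ∣ Nat.card (centralizer ({y} : Set G)))
    (h4 : 4 ∣ Nat.card (centralizer ({y} : Set G))) (hr2 : r ≠ 2) :
    ∃ s : G, orderOf s = 2 ∧ q ^ n ∣ Nat.card (centralizer ({s} : Set G)) := by
  have hFq : Fact q.Prime := ⟨hq⟩
  have hF2 : Fact (Nat.Prime 2) := ⟨Nat.prime_two⟩
  obtain ⟨ht, htC⟩ := hvy.quot Nat.prime_three hr hr3.symm hv hy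
  have hT : Nat.card (zpowers (mk y hvy.1)) = 3 := by rw [Nat.card_zpowers, ht]
  let C : Subgroup G := centralizer ({y} : Set G)
  have hZ : Nat.card (Zx y) = r := by
    show Nat.card (zpowers (self y)) = r
    rw [Nat.card_zpowers, ← hy]
    exact Subgroup.orderOf_mk y _
  have hC : Nat.card C = Nat.card (XX y) * r := by
    rw [← hZ]
    exact Subgroup.card_eq_card_quotient_mul_card_subgroup (Zx y)
  have hdK : q ^ n ∣ Nat.card (XX y) := by
    have h1 : q ^ n ∣ Nat.card (XX y) * r := by rw [← hC]; exact hd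
    exact (Nat.Coprime.pow_left n ((Nat.coprime_primes hq hr).2 hqr)).dvd_of_dvd_mul_right h1
  have h4K : 4 ∣ Nat.card (XX y) := by
    have h1 : 4 ∣ Nat.card (XX y) * r := by rw [← hC]; exact h4
    have h2 : Nat.Coprime 4 r := by
      have h5 : Nat.Coprime (2 ^ 2) r := Nat.Coprime.pow_left 2 ((Nat.coprime_primes Nat.prime_two hr).2 hr2.symm)
      exact h5
    exact h2.dvd_of_dvd_mul_right h1
  have hsmall : ∀ m : ℕ, m = 3 ∨ m = 6 → ¬ q ∣ m := by
    rintro m (rfl | rfl) h
    · have := Nat.le_of_dvd (by norm_num) h; omega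
    · have := Nat.le_of_dvd (by norm_num) h; omega
  rcases h3 (XX y) (zpowers (mk y hvy.1)) hT (centralizer_zpowers_eq htC) with
    ⟨N, hN, hnil, h36⟩ | ⟨N, hN, hsq, h60⟩ | h168
  · -- the preimage of `N`
    have hcN := N.card_mul_index
    have hidx : N.index = 3 ∨ N.index = 6 := h36
    let π : C →* XX y := QuotientGroup.mk' (Zx y)
    let M : Subgroup C := N.comap π
    have hMi : M.index = N.index := Subgroup.index_comap_of_surjective _ (QuotientGroup.mk'_surjective _)
    have hM := M.card_mul_index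
    -- `M` is nilpotent
    have hnM : Group.IsNilpotent M := by
      have : Group.IsNilpotent N := hnil
      refine Subgroup.isNilpotent_of_ker_le_center (π.subgroupComap N) ?_
      intro g hg
      rw [Subgroup.mem_center_iff]
      intro h
      have h1 : π g = 1 := congrArg Subtype.val (MonoidHom.mem_ker.1 hg)
      have h2 : (g : C) ∈ Zx y := (QuotientGroup.eq_one_iff _).1 h1
      obtain ⟨i, hi⟩ := h2
      apply Subtype.ext
      show (h : C) * (g : C) = (g : C) * (h : C)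
      rw [← hi]
      have h5 := Subgroup.mem_center_iff.1 (LThreeMB.self_mem_center y) (h : C)
      exact ((show Commute (h : C) (self y) from h5).zpow_right i).eq
    have hqM : q ^ n ∣ Nat.card M := by
      have h1 : q ^ n ∣ Nat.card M * M.index := by rw [hM]; exact hd
      refine Nat.Coprime.dvd_of_dvd_mul_right (Nat.Coprime.pow_left n ?_) h1
      rw [Nat.Prime.coprime_iff_not_dvd hq, hMi]
      exact hsmall _ hidx
    have h2M : 2 ∣ Nat.card M := by
      have h1 : 4 ∣ Nat.card M * M.index := by rw [hM]; exact h4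
      rw [hMi] at h1
      rcases hidx with h | h <;> rw [h] at h1 <;> omega
    obtain ⟨P⟩ : Nonempty (Sylow q M) := inferInstance
    obtain ⟨s, hs⟩ := exists_prime_orderOf_dvd_card' (G := M) 2 h2M
    have hP : q ^ n ∣ Nat.card (P : Subgroup M) := by
      obtain ⟨R, hR⟩ := Sylow.exists_subgroup_card_pow_prime (G := M) q hqM
      obtain ⟨P', hP'⟩ := (IsPGroup.of_card hR).exists_le_sylow
      have h1 := card_dvd_of_le hP'
      rw [hR] at h1
      obtain ⟨g, hg⟩ := MulAction.exists_smul_eq M P' P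
      have h2 : Nat.card ((g • P' : Sylow q M) : Subgroup M) = Nat.card (P' : Subgroup M) :=
        (Nat.card_congr (Sylow.equivSMul P' g).toEquiv).symm
      rw [← hg, h2]
      exact h1
    refine ⟨((s : C) : G), by rw [Subgroup.orderOf_coe, Subgroup.orderOf_coe, hs], ?_⟩
    have h1 : Nat.card (((P : Subgroup M).map M.subtype).map C.subtype) = Nat.card (P : Subgroup M) := by
      rw [card_map_of_injective C.subtype_injective, card_map_of_injective M.subtype_injective]
    rw [← h1] at hP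
    refine hP.trans (card_dvd_of_le ?_)
    rintro _ ⟨_, ⟨p, hp, rfl⟩, rfl⟩
    rw [mem_centralizer_singleton_iff]
    obtain ⟨k, hk⟩ := P.2 ⟨p, hp⟩
    have hk' : p ^ q ^ k = 1 := congrArg Subtype.val hk
    have h2 : Commute p s :=
      Lib.NilpotentCoprime.commute_of_pow_eq_one (m := q ^ k) (n := 2)
        (Nat.Coprime.pow_left _ ((Nat.coprime_primes hq Nat.prime_two).2 (by omega))) hk'
        (by rw [← hs, pow_orderOf_eq_one])
    exact congrArg (fun x : M => ((x : C) : G)) h2.eq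
  · exfalso
    have hcN := N.card_mul_index
    have hidx : N.index = 60 := h60
    have hd1 : q ∣ Nat.card (XX y) := (dvd_pow_self q (by omega)).trans hdK
    rw [← hcN, hidx] at hd1
    rcases hq.dvd_mul.1 hd1 with h | h
    · obtain ⟨m, hm⟩ := exists_prime_orderOf_dvd_card' q h
      have h1 := hsq m m.2
      have h2 : orderOf (m : XX y) ∣ 2 := orderOf_dvd_of_pow_eq_one h1
      rw [Subgroup.orderOf_coe, hm] at h2
      have := Nat.le_of_dvd (by norm_num) h2
      omega
    · have h1 : q ∣ 2 ^ 2 * 3 * 5 := h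
      rcases hq.dvd_mul.1 h1 with h2 | h2
      · rcases hq.dvd_mul.1 h2 with h3 | h3
        · have := (Nat.prime_dvd_prime_iff_eq hq Nat.prime_two).1 (hq.dvd_of_dvd_pow h3); omega
        · have := (Nat.prime_dvd_prime_iff_eq hq Nat.prime_three).1 h3; omega
      · have := (Nat.prime_dvd_prime_iff_eq hq Nat.prime_five).1 h2; omega
  · exfalso
    have hd1 : q ∣ Nat.card (XX y) := (dvd_pow_self q (by omega)).trans hdK
    rw [h168] at hd1
    have h1 : q ∣ 2 ^ 3 * 3 * 7 := hd1
    rcases hq.dvd_mul.1 h1 with h2 | h2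
    · rcases hq.dvd_mul.1 h2 with h3 | h3
      · have := (Nat.prime_dvd_prime_iff_eq hq Nat.prime_two).1 (hq.dvd_of_dvd_pow h3); omega
      · have := (Nat.prime_dvd_prime_iff_eq hq Nat.prime_three).1 h3; omega
    · have := (Nat.prime_dvd_prime_iff_eq hq (by norm_num : (7 : ℕ).Prime)).1 h2; omega

/-- an element `≠ 1, z` of `Q` commuting with `y` -/
theorem exists_a {G : Type u} [Group G] [Finite G] {Q : Subgroup G} {z : G} (L : Large Q z)
    (hQ : Nat.card Q = 2 ^ 25) {y : G} {r : ℕ} (hr : r.Prime) (hr2 : r ≠ 2) (hr24 : ¬ r ∣ 2 ^ 24 - 1) (hy : orderOf y = r)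
    (hyz : y * z = z * y) : ∃ a : G, a ∈ Q ∧ a ≠ 1 ∧ a ≠ z ∧ a * y = y * a := by
  have hconj : ∀ s ∈ Q, y * s * y⁻¹ ∈ Q := L.conj_mem y hyz
  obtain ⟨a, ⟨haQ, ha1, haz⟩, hay⟩ := exists_fixed hr hy {s : G | s ∈ Q ∧ s ≠ 1 ∧ s ≠ z} (by
    rintro s ⟨hs, hs1, hsz⟩
    refine ⟨hconj s hs, fun h => hs1 ?_, fun h => hsz ?_⟩
    · calc s = y⁻¹ * (y * s * y⁻¹) * y := by group
        _ = 1 := by rw [h]; group
    · calc s = y⁻¹ * (y * s * y⁻¹) * y := by group
        _ = y⁻¹ * (y * z) := by rw [h, mul_assoc, hyz]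
        _ = z := by group) (by
    have h3 : (Q : Set G) = {s : G | s ∈ Q ∧ s ≠ 1 ∧ s ≠ z} ∪ {1, z} := by
      ext s
      constructor
      · intro hs
        by_cases h1 : s = 1
        · exact Or.inr (by simp [h1])
        · by_cases h2 : s = z
          · exact Or.inr (by simp [h2])
          · exact Or.inl ⟨hs, h1, h2⟩
      · rintro (hs | hs)
        · exact hs.1
        · rcases hs with rfl | hs
          · exact Q.one_mem
          · rw [Set.mem_singleton_iff.1 hs]; exact L.z_mem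
    have h4 : Disjoint {s : G | s ∈ Q ∧ s ≠ 1 ∧ s ≠ z} {1, z} := by
      rw [Set.disjoint_left]
      rintro s ⟨-, h1, h2⟩ h3
      rcases h3 with h3 | h3
      · exact h1 h3
      · exact h2 h3
    have h5 : Nat.card (Q : Set G) = 2 ^ 25 := hQ
    rw [h3, Nat.card_coe_set_eq, Set.ncard_union_eq h4 (Set.toFinite _) (Set.toFinite _),
      Set.ncard_pair L.z_ne.symm] at h5
    rw [Nat.card_coe_set_eq]
    intro hd
    have h6 : (Set.ncard {s : G | s ∈ Q ∧ s ≠ 1 ∧ s ≠ z}) = 2 * (2 ^ 24 - 1) := by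
      norm_num at h5 ⊢
      omega
    rw [h6] at hd
    rcases hr.dvd_mul.1 hd with h | h
    · exact hr2 ((Nat.prime_dvd_prime_iff_eq hr Nat.prime_two).1 h)
    · exact hr24 h)
  exact ⟨a, haQ, ha1, haz, hay.symm⟩

/-- 4 divides `|C(y)|` -/
theorem four_dvd {G : Type u} [Group G] [Finite G] {Q : Subgroup G} {z : G} (L : Large Q z)
    (hQ : Nat.card Q = 2 ^ 25) {y : G} {r : ℕ} (hr : r.Prime) (hr2 : r ≠ 2) (hr24 : ¬ r ∣ 2 ^ 24 - 1) (hy : orderOf y = r)
    (hyz : y * z = z * y) : 4 ∣ Nat.card (centralizer ({y} : Set G)) := by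
  obtain ⟨a, haQ, ha1, haz, hay⟩ := exists_a L hQ hr hr2 hr24 hy hyz
  let P : Subgroup G := Q ⊓ centralizer ({y} : Set G)
  have hP : IsPGroup 2 P := (IsPGroup.of_card hQ).to_le inf_le_left
  obtain ⟨k, hk⟩ := IsPGroup.iff_card.1 hP
  have h1 : (1 : G) ∈ P := P.one_mem
  have h2 : a ∈ P := ⟨haQ, mem_centralizer_singleton_iff.2 hay⟩
  have h3 : z ∈ P := ⟨L.z_mem, mem_centralizer_singleton_iff.2 hyz.symm⟩
  have hlt : 2 < Nat.card P := by
    have h5 : ({1, a, z} : Set G).ncard = 3 := Set.ncard_eq_three.2 ⟨1, a, z, ha1.symm, L.z_ne.symm, haz, rfl⟩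
    have h6 : ({1, a, z} : Set G) ⊆ (P : Set G) := by
      intro g hg
      rcases hg with rfl | rfl | hg
      · exact h1
      · exact h2
      · rw [Set.mem_singleton_iff.1 hg]; exact h3
    have h7 := Set.ncard_le_ncard h6 (Set.toFinite _)
    have h8 : Nat.card P = (P : Set G).ncard := Nat.card_coe_set_eq _
    omega
  have hk2 : 2 ≤ k := by
    by_contra hc
    have : k = 0 ∨ k = 1 := by omega
    rcases this with rfl | rfl <;> rw [hk] at hlt <;> norm_num at hlt
  have h4 : 2 ^ 2 ∣ Nat.card P := hk ▸ pow_dvd_pow 2 hk2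
  exact h4.trans (card_dvd_of_le inf_le_right)

/-! ### The Monster -/

section M

open Cfsg.Agent.BpSpor.MBigModel

theorem nc_23_13 (h3 : Three.{0}) : NC 23 13 Gam := by
  have : Fact (Nat.Prime 23) := ⟨by norm_num⟩
  obtain ⟨y1, hy1⟩ := exists_prime_orderOf_dvd_card' (G := centralizer ({KDone.K.z} : Set Gam)) 23
    (by rw [card_cz]; norm_num)
  have hy1' : orderOf (y1 : Gam) = 23 := by rw [Subgroup.orderOf_coe, hy1]
  have h4 : 4 ∣ Nat.card (centralizer ({(y1 : Gam)} : Set Gam)) :=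
    four_dvd H241.Mon.chart.large H241.Mon.chart.card_Q (r := 23) (by norm_num) (by norm_num) (by norm_num) hy1'
      (mem_centralizer_singleton_iff.1 y1.2)
  obtain ⟨v, hv, hvy⟩ := exists_three (r := 23) (by norm_num) (by norm_num) (by rw [card_G]; norm_num) fi23 hy1'
  refine nc_of_card (a := 3) (by norm_num) (by norm_num) ⟨1, by rw [hy1', pow_one]⟩ (by rw [card_G]; norm_num) ?_
  intro hd
  obtain ⟨s, hs, hds⟩ := exists_inv_of_self h3 (r := 23) (by norm_num) (by norm_num) hy1' hv hvy (q := 13) (n := 3)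
    (by norm_num) (by norm_num) (by norm_num) (by norm_num) hd h4 (by norm_num)
  rcases cls hs with ⟨g, hg⟩ | h
  · rw [BpSpor.card_cent_of_conj hg, card_cent_z] at hds
    norm_num at hds
  · rw [card_cent_t h] at hds
    norm_num at hds

theorem nc_5_19 : NC 5 19 Gam := by
  obtain ⟨v, hv, hfr⟩ := exists_five_zero
  have hv' : orderOf (v : Gam) = 5 := by rw [Subgroup.orderOf_coe, hv]
  refine nc_of_card (a := 1) (by norm_num) (by norm_num) (x := (v : Gam)) ⟨1, by rw [hv', pow_one]⟩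
    (by rw [card_G]; norm_num) ?_
  rw [pow_one]
  exact H199.NSmMon.five_zero hv hfr (r := 19) (by unfold H199.NSmMon.Big; norm_num)

theorem nc_17 (h3 : Three.{0}) {q a : ℕ} (hq : q.Prime) (h17 : 17 ≠ q)
    (hd : q ^ a ∣ 808017424794512875886459904961710757005754368000000000) (hn : ¬ q ^ a ∣ 168 * 17) : NC 17 q Gam := by
  have : Fact (Nat.Prime 17) := ⟨by norm_num⟩
  obtain ⟨y, hy⟩ := exists_prime_orderOf_dvd_card' (G := Gam) 17 (by rw [card_G]; norm_num)
  exact nc_of_dvd (a := a) hq h17 hy (by rw [card_G]; exact hd) (card_seventeen h3 hy) hn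

theorem no_23_q (h3 : Three.{0}) {q : ℕ} (hq : q ∈ [17, 19, 29, 31, 41, 47, 59, 71]) (x y : Gam) (hx : orderOf x = q)
    (hy : orderOf y = 23) : x * y ≠ y * x := by
  obtain ⟨v, hv, hvy⟩ := exists_three (r := 23) (by norm_num) (by norm_num) (by rw [card_G]; norm_num) fi23 hy
  obtain ⟨z, a, b, hz, hcz, hay, hby, hab⟩ := exists_pair23 hy
  have key : q.Prime ∧ 11 ≤ q ∧ q ≠ 23 ∧ ¬ q ^ 2 ∣ 808017424794512875886459904961710757005754368000000000 ∧
      ¬ q ∣ 2 ^ 25 * 4157776806543360000 := by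
    simp only [List.mem_cons, List.not_mem_nil, or_false] at hq
    rcases hq with rfl | rfl | rfl | rfl | rfl | rfl | rfl | rfl <;> norm_num
  obtain ⟨k1, k2, k3, k4, k5⟩ := key
  exact no_comm_of_comm h3 (r := 23) (by norm_num) (by norm_num) (by norm_num) hy hv hvy hay hby hab hz (q := q)
    k1 k2 k3 (by rw [card_G]; exact k4) (by rw [hcz]; exact k5) x hx

theorem nc_23 (h3 : Three.{0}) {q : ℕ} (hq : q ∈ [17, 19, 29, 31, 41, 47, 59, 71]) : NC q 23 Gam := by
  have hpr : q.Prime ∧ q ≠ 23 ∧ q ∣ 808017424794512875886459904961710757005754368000000000 := by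
    simp only [List.mem_cons, List.not_mem_nil, or_false] at hq
    rcases hq with rfl | rfl | rfl | rfl | rfl | rfl | rfl | rfl <;> norm_num
  exact nc_of_noComm hpr.1 (by norm_num) hpr.2.1 (by rw [card_G]; exact hpr.2.2) (by rw [card_G]; norm_num)
    fun x y hx hy => no_23_q h3 hq x y hx hy

section

variable (TB : Cfsg.Agent.OrdDiv.OrderTable.{0})
  (hS : ∀ (X : Type) [Group X] [Finite X] [IsSimpleGroup X], IsKnownSimple' X)

include TB hS

theorem exists_eleven : ∃ x : Gam, orderOf x = 11 ∧ Nat.card (centralizer ({x} : Set Gam)) = 11 * 95040 := by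
  have : Fact (Nat.Prime 11) := ⟨by norm_num⟩
  obtain ⟨x, hx⟩ := exists_prime_orderOf_dvd_card' (G := centralizer ({zz} : Set Gam)) 11 (by rw [card_cent_z]; norm_num)
  have hx' : orderOf (x : Gam) = 11 := by rw [Subgroup.orderOf_coe, hx]
  exact ⟨x, hx', (H746.MEleven.cent_good TB hS hx' orderOf_zz (mem_centralizer_singleton_iff.1 x.2).symm).1⟩

theorem nc_11 {q a : ℕ} (hq : q.Prime) (h11 : 11 ≠ q)
    (hd : q ^ a ∣ 808017424794512875886459904961710757005754368000000000) (hn : ¬ q ^ a ∣ 11 * 95040) :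
    NC 11 q Gam := by
  obtain ⟨x, hx, hc⟩ := exists_eleven TB hS
  exact nc_of_card (a := a) hq h11 ⟨1, by rw [hx, pow_one]⟩ (by rw [card_G]; exact hd) (by rw [hc]; exact hn)

end

theorem nc_59 (hK : CpAut.AllKnown.{0}) {q : ℕ} (hq : q.Prime) (h59 : 59 ≠ q)
    (hd : q ∣ 808017424794512875886459904961710757005754368000000000) : NC 59 q Gam :=
  nc_of_self (by norm_num) hq h59 (by rw [card_G]; norm_num) (by rw [card_G]; exact hd)
    fun _ hx => (H58.Cop.M.norm_fiftynine hK hx).1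

end M

end Cfsg.Agent.H180.TH.Mon
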