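import Cfsg.Agent.H180.TriH.Def
import Cfsg.Agent.H981.NHJanko
import Cfsg.Agent.H846.NHRows
import Cfsg.Agent.H322.NH.HeRu
import Cfsg.Agent.H413.JOneSpec
import Cfsg.Agent.H547.SelfCent.McLHS
import Cfsg.Agent.H547.SelfCent.Ru

/-!
# Transitivity rows (S4335): `J₁`, `J₂`, `J₃`, `HS`, `McL`, `He`, `Ru` (helper180)
-/

set_option autoImplicit false
open Cfsg Subgroup

namespace Cfsg.Agent.H180.TH

open Cfsg.Agent.H630.NH Cfsg.Agent.H241.NH Cfsg.Agent.H393.Iso

universe u

/-- a self-centralizing element of prime order -/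
theorem nc_of_self {X : Type u} [Group X] [Finite X] {p q : ℕ} (hp : p.Prime) (hq : q.Prime) (hpq : p ≠ q)
    (hpd : p ∣ Nat.card X) (hqd : q ∣ Nat.card X)
    (h : ∀ x : X, orderOf x = p → Nat.card (centralizer ({x} : Set X)) = p) : NC p q X := by
  have : Fact p.Prime := ⟨hp⟩
  obtain ⟨x, hx⟩ := exists_prime_orderOf_dvd_card' (G := X) p hpd
  refine nc_of_card (a := 1) hq hpq ⟨1, by rw [hx, pow_one]⟩ (by rwa [pow_one]) ?_
  rw [h x hx, pow_one]
  exact fun hd => hpq ((Nat.prime_dvd_prime_iff_eq hq hp).1 hd).symm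

theorem triH_j1 {G : Type*} [Group G] [Finite G] (h : Spor.IsoJ1 G) : TriH G := by
  have hN := NotCT.Orders.j1 h
  obtain ⟨e⟩ := h
  have hno : ∀ {n : ℕ}, n ∉ ({1, 2, 3, 5, 6, 7, 10, 11, 15, 19} : Finset ℕ) → ∀ z : G, orderOf z ≠ n := by
    intro n hn z hz
    apply hn
    rw [← hz, ← MulEquiv.orderOf_eq e z]
    exact H413.JOneSpec.orderOf_mem_J1 (e z)
  refine triH_of (N := 175560) (k := 3) hN [(3, 1), (5, 1), (7, 1), (11, 1), (19, 1)]
    [(3, 7), (3, 11), (3, 19), (5, 7), (5, 11), (5, 19), (7, 11), (7, 19), (11, 19)] ?_ ?_ ?_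
  · decide
  · decide
  · intro a ha
    simp only [List.mem_cons, List.not_mem_nil, or_false] at ha
    rcases ha with rfl | rfl | rfl | rfl | rfl | rfl | rfl | rfl | rfl <;>
      exact nc_of_noOrd (by norm_num) (by norm_num) (by norm_num) (by rw [hN]; norm_num) (by rw [hN]; norm_num)
        (hno (by decide))

theorem triH_j2 {G : Type*} [Group G] [Finite G] (h : Spor.IsoJ2 G) : TriH G := by
  have hN := NotCT.Orders.j2 h
  obtain ⟨t, u, Q, v, ρ, D⟩ := Cfsg.Agent.KFacts.J2.Facts.exists_dat_of h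
  obtain ⟨a, b, -, hb, -, hcb, -, -⟩ := Cfsg.Agent.J2Type.ThreeF.main D.F
  refine triH_of (N := 604800) (k := 7) hN [(3, 3), (5, 2), (7, 1)] [(3, 5), (3, 7)] ?_ ?_ ?_
  · decide
  · decide
  · intro a ha
    simp only [List.mem_cons, List.not_mem_nil, or_false] at ha
    rcases ha with rfl | rfl <;>
      exact nc_of_card (a := 1) (by norm_num) (by norm_num) ⟨1, by rw [hb, pow_one]⟩ (by rw [hN]; norm_num)
        (by rw [hcb]; norm_num)

theorem triH_j3 {G : Type*} [Group G] [Finite G] (h : Spor.IsoJ3 G) : TriH G := by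
  have hN := NotCT.Orders.j3 h
  have h17 : Fact (Nat.Prime 17) := ⟨by norm_num⟩
  have h19 : Fact (Nat.Prime 19) := ⟨by norm_num⟩
  refine triH_of (N := 50232960) (k := 7) hN [(3, 5), (5, 1), (17, 1), (19, 1)] [(3, 5), (3, 17), (3, 19)] ?_ ?_ ?_
  · decide
  · decide
  · intro a ha
    simp only [List.mem_cons, List.not_mem_nil, or_false] at ha
    rcases ha with rfl | rfl | rfl
    · obtain ⟨y, hy, hc⟩ := H724.IMJThree.exists_five h
      exact (nc_of_card (p := 5) (q := 3) (a := 5) (by norm_num) (by norm_num) ⟨1, by rw [hy, pow_one]⟩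
        (by rw [hN]; norm_num) (by rw [hc]; norm_num)).symm
    · obtain ⟨y, hy⟩ := exists_prime_orderOf_dvd_card' (G := G) 17 (by rw [hN]; norm_num)
      exact (nc_of_card (p := 17) (q := 3) (a := 1) (by norm_num) (by norm_num) ⟨1, by rw [hy, pow_one]⟩
        (by rw [hN]; norm_num) (by rw [(H898.J3Cent.seventeen h hy).1]; norm_num)).symm
    · obtain ⟨y, hy⟩ := exists_prime_orderOf_dvd_card' (G := G) 19 (by rw [hN]; norm_num)
      exact (nc_of_card (p := 19) (q := 3) (a := 1) (by norm_num) (by norm_num) ⟨1, by rw [hy, pow_one]⟩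
        (by rw [hN]; norm_num) (by rw [H898.J3Cent.card_nineteen h hy]; norm_num)).symm

theorem triH_hs {G : Type*} [Group G] [Finite G] [IsSimpleGroup G] (h : Spor.IsoHS G) : TriH G := by
  have hN := NotCT.Orders.hs h
  obtain ⟨h3, h7, h11⟩ := H846.NHRows.hs_nc h hN
  refine triH_of (N := 44352000) (k := 9) hN [(3, 2), (5, 3), (7, 1), (11, 1)] [(5, 3), (5, 7), (5, 11), (11, 3)]
    ?_ ?_ ?_
  · decide
  · decide
  · intro a ha
    simp only [List.mem_cons, List.not_mem_nil, or_false] at ha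
    rcases ha with rfl | rfl | rfl | rfl
    · exact h3
    · exact h7
    · exact h11
    · exact nc_of_self (by norm_num) (by norm_num) (by norm_num) (by rw [hN]; norm_num) (by rw [hN]; norm_num)
        fun x hx => H547.SelfCent.McLHS.hs h (na_hs h) hN hx

theorem triH_mcl {G : Type*} [Group G] [Finite G] (h : Spor.IsoMcL G) : TriH G := by
  have hN := NotCT.Orders.mcl h
  obtain ⟨h35, h37, h311, h57, h511⟩ := H846.NHRows.mcl_nc h hN
  refine triH_of (N := 898128000) (k := 7) hN [(3, 6), (5, 3), (7, 1), (11, 1)]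
    [(3, 5), (3, 7), (3, 11), (5, 7), (5, 11)] ?_ ?_ ?_
  · decide
  · decide
  · intro a ha
    simp only [List.mem_cons, List.not_mem_nil, or_false] at ha
    rcases ha with rfl | rfl | rfl | rfl | rfl
    · exact h35
    · exact h37
    · exact h311
    · exact h57
    · exact h511

theorem triH_he {G : Type*} [Group G] [Finite G] (h : Spor.IsoHe G) : TriH G := by
  have hN := NotCT.Orders.he h
  obtain ⟨e⟩ := id h
  refine triH_of (N := 4030387200) (k := 10) hN [(3, 3), (5, 2), (7, 3), (17, 1)]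
    [(3, 5), (3, 7), (3, 17), (7, 5), (7, 17)] ?_ ?_ ?_
  · decide
  · decide
  · intro a ha
    simp only [List.mem_cons, List.not_mem_nil, or_false] at ha
    rcases ha with rfl | rfl | rfl | rfl | rfl
    · exact (H322.NH.HeR.nc5 (q := 3) (a := 3) (by norm_num) (by norm_num) (by norm_num)
        (by norm_num)).symm.congr e.symm
    · exact (H322.NH.HeR.nc7 (q := 3) (a := 3) (by norm_num) (by norm_num) (by norm_num)
        (by norm_num)).symm.congr e.symm
    · exact (H322.NH.HeR.nc17 (q := 3) (by norm_num) (by norm_num) (by norm_num)).symm.congr e.symm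
    · exact (H322.NH.HeR.nc7 (q := 5) (a := 1) (by norm_num) (by norm_num) (by norm_num) (by norm_num)).congr e.symm
    · exact (H322.NH.HeR.nc7 (q := 17) (a := 1) (by norm_num) (by norm_num) (by norm_num) (by norm_num)).congr e.symm

theorem triH_ru {G : Type*} [Group G] [Finite G] (h : Spor.IsoRu G) : TriH G := by
  have hN := NotCT.Orders.ru h
  obtain ⟨e'⟩ := id h
  have e := (e'.trans Cfsg.Agent.RuLat.Main.equiv).symm
  refine triH_of (N := 145926144000) (k := 14) hN [(3, 3), (5, 3), (7, 1), (13, 1), (29, 1)]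
    [(3, 5), (3, 7), (3, 13), (3, 29), (5, 7), (5, 13), (5, 29), (29, 13)] ?_ ?_ ?_
  · decide
  · decide
  · intro a ha
    simp only [List.mem_cons, List.not_mem_nil, or_false] at ha
    rcases ha with rfl | rfl | rfl | rfl | rfl | rfl | rfl | rfl
    · exact (H322.NH.RuR.nc5 (q := 3) (a := 3) (by norm_num) (by norm_num) (by norm_num) (by norm_num)).symm.congr e
    · exact (H322.NH.RuR.nc7 (q := 3) (a := 3) (by norm_num) (by norm_num) (by norm_num) (by norm_num)).symm.congr e
    · exact (H322.NH.RuR.nc13 (q := 3) (a := 3) (by norm_num) (by norm_num) (by norm_num) (by norm_num)).symm.congr e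
    · exact (H322.NH.RuR.nc29 (q := 3) (a := 3) (by norm_num) (by norm_num) (by norm_num) (by norm_num)).symm.congr e
    · exact (H322.NH.RuR.nc7 (q := 5) (a := 3) (by norm_num) (by norm_num) (by norm_num) (by norm_num)).symm.congr e
    · exact (H322.NH.RuR.nc13 (q := 5) (a := 3) (by norm_num) (by norm_num) (by norm_num) (by norm_num)).symm.congr e
    · exact (H322.NH.RuR.nc29 (q := 5) (a := 3) (by norm_num) (by norm_num) (by norm_num) (by norm_num)).symm.congr e
    · exact nc_of_self (by norm_num) (by norm_num) (by norm_num) (by rw [hN]; norm_num) (by rw [hN]; norm_num)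
        fun x hx => H547.SelfCent.Ru.ru h (na_ru h) hx

end Cfsg.Agent.H180.TH
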